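import Cfsg.Agent.Lib.TransvUniq.L52.Cross
import Cfsg.Agent.Lib.TransvUniq.L5.Finish

/-!
A finite group with a frame and the fusion pattern of SL(5,2) has a copy of SL(5,2) extending the frame, and the
copy is everything.
-/

set_option autoImplicit false
set_option maxRecDepth 20000
set_option linter.unusedSectionVars false
set_option linter.style.haveILetI false

namespace Cfsg.Agent.TransvUniq.L52

open Cfsg.Agent.HeUniq.Model Cfsg.Agent.HeUniq.Fus
open L5 (S5 M5 dec zS uS)

theorem isSimple_S5 : IsSimpleGroup S5 := by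
  haveI : Fact (Nat.Prime 2) := ⟨Nat.prime_two⟩
  have hc : Subgroup.center S5 = ⊥ := by
    refine Subgroup.eq_bot_of_card_eq _ ?_
    have h := ClassicalSL.card_center_sl (ι := Fin 5) (F := ZMod 2)
    rw [h, Nat.card_zmod]
    simp
  haveI : IsSimpleGroup (Matrix.ProjectiveSpecialLinearGroup (Fin 5) (ZMod 2)) :=
    ClassicalSL.isSimpleGroup_psl (by simp)
  have e : S5 ≃* Matrix.ProjectiveSpecialLinearGroup (Fin 5) (ZMod 2) :=
    MulEquiv.ofBijective (QuotientGroup.mk' (Subgroup.center S5))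
      ⟨by rw [← MonoidHom.ker_eq_bot_iff, QuotientGroup.ker_mk', hc], QuotientGroup.mk'_surjective _⟩
  exact e.isSimpleGroup

variable {G : Type*} [Group G] [Finite G] {t : G} (F : Frame G t)

theorem mask_twist_113 (hm : mask F = 113) : mask F.twist = 113 := by
  refine Nat.eq_of_testBit_eq fun k => ?_
  rcases Nat.lt_or_ge k 8 with hk | hk
  · rw [testBit_twist F hk, hm]
    interval_cases k <;> rfl
  · rw [Nat.testBit_lt_two_pow ((mask_lt F.twist).trans_le (Nat.pow_le_pow_right two_pos hk)),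
      Nat.testBit_lt_two_pow (lt_of_lt_of_le (show 113 < 2 ^ 8 by norm_num) (Nat.pow_le_pow_right two_pos hk))]

theorem colS_single : ∀ k : Fin 4, colS (Pi.single k 1) = tv k.castSucc 4 := by decide +kernel

theorem embM_transvection : ∀ i j : Fin 4, i ≠ j →
    embM (Matrix.transvection i j 1) = ((tv i.castSucc j.castSucc : S5) : M5) := by decide +kernel

theorem embS_P1 (B : S4) : embS B ∈ P1 := mem_P1.2 fun j => by
  rw [coe_embS]; fin_cases j <;> rfl

/-- The homomorphism extending the frame. -/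
theorem exists_hom_extend (hm : mask F = 113) :
    ∃ f : S5 →* G, ∀ (g : S5) (hg : g ∈ CS), f g = fm F ⟨g, hg⟩ := by
  haveI : Fact (Nat.Prime 2) := ⟨Nat.prime_two⟩
  obtain ⟨hA, hhA⟩ := exists_P1_hom F (by rw [hm]; decide)
  obtain ⟨hT, hhT⟩ := exists_P1_hom F.twist (by rw [mask_twist_113 F hm]; decide)
  have ha : Ext F hA := ⟨hhA⟩
  have ht : Ext F.twist hT := ⟨hhT⟩
  obtain ⟨z, hz, hcross⟩ := exists_twist ha ht
  obtain ⟨f, hf⟩ := exists_hom (rels_of_cross ha ht hz hcross)
  refine ⟨f, fun g hg => ?_⟩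
  have hroot : ∀ {i j : Fin 5}, i ≠ j → i ≠ 4 → f (tv i j) = YA hA i j := fun {i j} hij h4 => by
    rw [tv_eq hij, hf i j hij fun h => h4 h.1, YY_ne hA hT z h4]
  have hcol : ∀ v : V4, f (colS v) = hA ⟨colS v, CS_le_P1 (colS_mem_CS v)⟩ := by
    let f1 : Multiplicative V4 →* G := MonoidHom.mk' (fun v => f (colS v.toAdd)) fun v w => by
      show f (colS (v.toAdd + w.toAdd)) = _
      rw [← colS_mul, map_mul]
    let f2 : Multiplicative V4 →* G :=
      MonoidHom.mk' (fun v => hA ⟨colS v.toAdd, CS_le_P1 (colS_mem_CS _)⟩) fun v w => by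
        rw [← map_mul]; exact congrArg hA (Subtype.ext (colS_mul _ _).symm)
    have h1 : ∀ (k : Fin 4) (x : ZMod 2),
        f1 (.ofAdd (Pi.single k x)) = f2 (.ofAdd (Pi.single k x)) := by
      intro k x
      rcases zmod2_cases x with rfl | rfl
      · rw [Pi.single_zero, ofAdd_zero, map_one, map_one]
      · show f (colS (Pi.single k 1)) = hA ⟨colS (Pi.single k 1), _⟩
        have h4 : k.castSucc ≠ (4 : Fin 5) := k.castSucc_lt_last.ne
        exact (congrArg f (colS_single k)).trans ((hroot h4 h4).trans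
          ((YA_eq hA h4).trans (congrArg hA (Subtype.ext (colS_single k).symm))))
    intro v
    show f1 (.ofAdd v) = f2 (.ofAdd v)
    rw [← Finset.univ_sum_single v, Fin.sum_univ_four, ofAdd_add, ofAdd_add, ofAdd_add]
    simp only [map_mul, h1]
  have hemb : ∀ (B : S4), f (embS B) = hA ⟨embS B, embS_P1 B⟩ := by
    let f1 : S4 →* G := f.comp embS
    let f2 : S4 →* G := hA.comp (embS.codRestrict P1 embS_P1)
    intro B
    show f1 B = f2 B
    refine DFunLike.congr_fun (MonoidHom.eq_of_eqOn_dense ClassicalSL.closure_elemTransvections ?_) B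
    rintro _ ⟨i, j, hij, c, rfl⟩
    rcases zmod2_cases c with rfl | rfl
    · have : Matrix.SpecialLinearGroup.transvection hij (0 : ZMod 2) = 1 :=
        Subtype.ext (by rw [Matrix.SpecialLinearGroup.transvection_coe]; simp)
      rw [this, map_one, map_one]
    · have he : embS (Matrix.SpecialLinearGroup.transvection hij 1) = tv i.castSucc j.castSucc :=
        Subtype.ext (by rw [coe_embS]; exact embM_transvection i j hij)
      have h4 : i.castSucc ≠ (4 : Fin 5) := i.castSucc_lt_last.ne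
      exact (congrArg f he).trans ((hroot (Fin.castSucc_injective _ |>.ne hij) h4).trans
        ((YA_eq hA h4).trans (congrArg hA (Subtype.ext he.symm))))
  have hP : g ∈ P1 := CS_le_P1 hg
  rw [← hhA g hP hg]
  have hd := decompS (⟨g, hP⟩ : P1)
  calc f g = f (colS (vecM (g : M5))) * f (embS (blkS ⟨g, hP⟩)) := by rw [← map_mul]; exact congrArg f hd
    _ = _ := by
      rw [hcol, hemb, ← map_mul]
      exact congrArg hA (Subtype.ext hd.symm)

/-- The branch of SL(5,2). -/
theorem exists_iso (hm : mask F = 113) : ∃ f : S5 →* G, Function.Injective f ∧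
    (∀ (g : S5) (hg : g ∈ CS), f g = fm F ⟨g, hg⟩) ∧ f.range = ⊤ := by
  haveI := isSimple_S5
  obtain ⟨f, hf⟩ := exists_hom_extend F hm
  have hzC : zS ∈ CS := by rw [mem_CS, L5.coe_zS]; rfl
  have hzt : f zS = t := by
    rw [hf _ hzC, fm_code F inC_z (by rw [L5.coe_zS]; exact toMat_zC.symm), F.fz]
  have hinj : Function.Injective f := by
    rw [← MonoidHom.ker_eq_bot_iff]
    refine (f.normal_ker.eq_bot_or_eq_top).resolve_right fun h => ?_
    have : zS ∈ f.ker := h ▸ Subgroup.mem_top _
    rw [MonoidHom.mem_ker, hzt] at this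
    exact t_ne_one F this
  refine ⟨f, hinj, hf, L5.range_top f hinj (fun g hg => ?_) fun hZ => ?_⟩
  · rw [hzt] at hg
    obtain ⟨k, hk⟩ := fm_surj F hg
    exact ⟨k, (hf k k.2).trans hk⟩
  · have hu : InC L5.uC ∧ cls L5.uC < 8 ∧ (113 : ℕ).testBit (cls L5.uC) = false := by
      refine ⟨inC_of_toMat (by decide +kernel) ?_ (by decide +kernel), by decide +kernel, by decide +kernel⟩
      rw [show HeUniq.Bit.toMat 5 L5.uC = (uS : M5) from L5.code_facts.2.2.trans L5.coe_uS.symm, uS.2]
      exact one_ne_zero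
    have huC : uS ∈ CS := code_mem hu.1 (L5.coe_uS.trans L5.code_facts.2.2.symm)
    obtain ⟨g, hg⟩ := hZ
    rw [hzt, hf _ huC, fm_code F hu.1 (g := ⟨uS, huC⟩) (L5.coe_uS.trans L5.code_facts.2.2.symm)] at hg
    have h' := (conj_iff F hu.2.1).1 (isConj_iff.2 ⟨g, hg⟩)
    rw [hm, hu.2.2] at h'
    exact Bool.noConfusion h'

end Cfsg.Agent.TransvUniq.L52
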