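import Cfsg.Agent.Lib.TransvUniq.L52.Parab
import Cfsg.Agent.Lib.TransvUniq.Control.Basic

/-!
When the conjugates of the involution inside its centraliser are exactly the non-trivial elements of the column
group, the group is the stabiliser of a vector in SL(5,2).
-/

set_option autoImplicit false
set_option maxRecDepth 20000
set_option linter.unusedSectionVars false
set_option maxHeartbeats 400000

namespace Cfsg.Agent.TransvUniq.L52

open Cfsg.Agent.HeUniq.Model Cfsg.Agent.HeUniq.Excl Cfsg.Agent.HeUniq.Fus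
open L5 (S5 M5 dec exists_of_mul)

variable {G : Type*} [Group G] {t : G}

theorem conj_of_odd {p q : G} (hp : p * p = 1) (hq : q * q = 1) {k : ℕ} (h : (p * q) ^ (2 * k + 1) = 1) :
    (p * q) ^ (k + 1) * q * ((p * q) ^ (k + 1))⁻¹ = p := by
  have hqd : q * (p * q)⁻¹ * q⁻¹ = p * q := by
    rw [mul_inv_rev, inv_eq_of_mul_eq_one_right hp, inv_eq_of_mul_eq_one_right hq, ← mul_assoc q q, hq, one_mul]
  have hzd : q * ((p * q) ^ (k + 1))⁻¹ = (p * q) ^ (k + 1) * q := by
    have h' := congrArg (fun x => x ^ (k + 1)) hqd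
    simp only [conj_pow] at h'
    rw [← inv_pow, ← h']; group
  rw [mul_assoc, hzd, ← mul_assoc, ← pow_add, show k + 1 + (k + 1) = 2 * k + 1 + 1 by omega, pow_succ, h, one_mul,
    mul_assoc, hq, mul_one]

theorem repC_six_col : inA (repC 6) = true := by decide +kernel

theorem mask96_bits : ∀ k < 8, (96 : ℕ).testBit k = true → k = 5 ∨ k = 6 := by decide

/-- A block with the given first column. -/
def firstCol (a b c d : ZMod 2) : Matrix (Fin 4) (Fin 4) (ZMod 2) :=
  if a = 1 then !![1, 0, 0, 0; b, 1, 0, 0; c, 0, 1, 0; d, 0, 0, 1]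
  else if b = 1 then !![0, 1, 0, 0; 1, 0, 0, 0; c, 0, 1, 0; d, 0, 0, 1]
  else if c = 1 then !![0, 0, 1, 0; 0, 1, 0, 0; 1, 0, 0, 0; d, 0, 0, 1]
  else !![0, 0, 0, 1; 0, 1, 0, 0; 0, 0, 1, 0; 1, 0, 0, 0]

theorem firstCol_spec : ∀ a b c d : ZMod 2, ¬ (a = 0 ∧ b = 0 ∧ c = 0 ∧ d = 0) →
    (∃ k : Fin 4, (firstCol a b c d).mulVec (Pi.single 0 1) = ![a, b, c, d] ∧
      firstCol a b c d * firstCol a b c d * (firstCol a b c d * firstCol a b c d) = 1 ∧ k = 0) := by
  decide +kernel

theorem comm_block : ∀ {B : Matrix (Fin 4) (Fin 4) (ZMod 2)},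
    B * Matrix.transvection 1 2 1 = Matrix.transvection 1 2 1 * B → B 0 1 = 0 ∧ B 2 1 = 0 ∧ B 3 1 = 0 := by
  intro B h
  have e0 := congrFun (congrFun h 0) 2
  have e2 := congrFun (congrFun h 2) 2
  have e3 := congrFun (congrFun h 3) 2
  simp [Matrix.mul_apply, Matrix.transvection, Fin.sum_univ_four, Matrix.single, Matrix.one_apply] at e0 e2 e3
  exact ⟨e0, e2, e3⟩

theorem embS_mem_P1 (B : S4) : embS B ∈ P1 := mem_P1.2 fun j => by
  rw [coe_embS]; fin_cases j <;> rfl

/-- The transvection of the block. -/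
def TB : S4 := Matrix.SpecialLinearGroup.transvection (show (1 : Fin 4) ≠ 2 by decide) 1

theorem coe_TB : TB.1 = Matrix.transvection 1 2 1 := rfl

/-- The test involution. -/
noncomputable def TP : P1 := ⟨embS TB, embS_mem_P1 TB⟩

theorem blk_TP : (blkS TP).1 = Matrix.transvection 1 2 1 := by
  rw [coe_blkS, show ((TP : S5) : M5) = embM TB.1 from coe_embS TB, coe_TB]
  decide +kernel

theorem TP_sq : TP * TP = 1 := by
  refine Subtype.ext ?_
  show embS TB * embS TB = 1
  rw [← map_mul, ← map_one embS]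
  exact congrArg embS (Subtype.ext (by
    show TB.1 * TB.1 = (1 : Matrix (Fin 4) (Fin 4) (ZMod 2))
    rw [coe_TB]; decide +kernel))

theorem fix_TB {a : V4} (ha : a 2 = 0) : (Matrix.transvection (1 : Fin 4) 2 (1 : ZMod 2)).mulVec a = a := by
  ext i
  fin_cases i <;> simp [Matrix.transvection, Matrix.mulVec, dotProduct, Fin.sum_univ_four, Matrix.single,
    Matrix.one_apply, ha]

theorem eq_zero_of_fix : ∀ a b c d : ZMod 2,
    (Matrix.transvection (1 : Fin 4) 2 (1 : ZMod 2)).mulVec ![a, b, c, d] = ![a, b, c, d] → c = 0 := by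
  decide +kernel

theorem exists_equiv_stab :
    ∃ v : Fin 5 → ZMod 2, v ≠ 0 ∧ Nonempty (P1 ≃* MulAction.stabilizer S5 v) := by
  let ψ : P1 →* S5 := MonoidHom.mk' (fun g => (g⁻¹ : P1).1.transpose) fun g k => by
    refine Subtype.ext ?_
    rw [mul_inv_rev, Subgroup.coe_mul, Matrix.SpecialLinearGroup.coe_mul]
    show ((k⁻¹ : P1).1 * (g⁻¹ : P1).1 : S5).1.transpose = _
    rw [Matrix.SpecialLinearGroup.coe_mul, Matrix.transpose_mul]
    rfl
  let v : Fin 5 → ZMod 2 := Pi.single 4 1
  have hstab : ∀ q : S5, q ∈ MulAction.stabilizer S5 v ↔ q.transpose ∈ P1 := by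
    intro q
    rw [MulAction.mem_stabilizer_iff, mem_P1]
    have e : q • v = fun i => (q : M5) i 4 := by
      show (q : M5).mulVec (Pi.single 4 1) = _
      ext i
      simp [Matrix.mulVec_single]
    rw [e, funext_iff]
    simp only [v, Pi.single_apply]
    rfl
  have hψmem : ∀ g : P1, ψ g ∈ MulAction.stabilizer S5 v := fun g => (hstab _).2 (by
    have : (ψ g).transpose = (g⁻¹ : P1).1 := Subtype.ext (Matrix.transpose_transpose _)
    rw [this]; exact (g⁻¹).2)
  have hbij : Function.Bijective (ψ.codRestrict (MulAction.stabilizer S5 v) hψmem) := by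
    refine ⟨fun a b hab => ?_, fun q => ?_⟩
    · have h' := congrArg (fun q : MulAction.stabilizer S5 v => (q : S5).1.transpose) hab
      change ((a⁻¹ : P1).1.1).transpose.transpose = ((b⁻¹ : P1).1.1).transpose.transpose at h'
      rw [Matrix.transpose_transpose, Matrix.transpose_transpose] at h'
      exact inv_injective (Subtype.ext (Subtype.ext h'))
    · refine ⟨(⟨(q : S5).transpose, (hstab _).1 q.2⟩ : P1)⁻¹, Subtype.ext (Subtype.ext ?_)⟩
      show ((((⟨(q : S5).transpose, (hstab _).1 q.2⟩ : P1)⁻¹)⁻¹ : P1).1.1).transpose = _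
      rw [inv_inv]
      exact Matrix.transpose_transpose _
  exact ⟨v, by decide, ⟨MulEquiv.ofBijective _ hbij⟩⟩

theorem det_contra {B : S4} (hc : B.1 * Matrix.transvection 1 2 1 = Matrix.transvection 1 2 1 * B.1)
    (he : B.1.mulVec (Pi.single 0 1) = Pi.single 1 1) : False := by
  obtain ⟨b0, b2, b3⟩ := comm_block hc
  have e' := fun i => congrFun he i
  have c0 : B.1 0 0 = 0 := by simpa using e' 0
  have c1 : B.1 1 0 = 1 := by simpa using e' 1
  have c2 : B.1 2 0 = 0 := by simpa using e' 2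
  have c3 : B.1 3 0 = 0 := by simpa using e' 3
  have hdet : B.1.det = 0 := by
    rcases eq_or_ne (B.1 1 1) 0 with h11 | h11
    · refine Matrix.det_eq_zero_of_column_eq_zero 1 fun i => ?_
      fin_cases i <;> assumption
    · refine Matrix.det_zero_of_column_eq (show (0 : Fin 4) ≠ 1 by decide) fun i => ?_
      fin_cases i
      · exact c0.trans b0.symm
      · exact c1.trans (L5.zmod2_one _ h11).symm
      · exact c2.trans b2.symm
      · exact c3.trans b3.symm
  rw [B.2] at hdet
  exact one_ne_zero hdet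

theorem blk_colS (v : V4) (h : colS v ∈ P1) : (blkS ⟨colS v, h⟩).1 = 1 := by
  rw [coe_blkS]
  show blkM (colM v) = 1
  ext i j; fin_cases i <;> fin_cases j <;> rfl

variable [Finite G] (F : Frame G t)

theorem mem_col_of_zt (hm : mask F = 96) {x : G} (hx : x * t = t * x) (hZ : ZT t x) : x ∈ col F := by
  have htt : t * t = 1 := sq_t F
  obtain ⟨a, ha, rfl⟩ := F.surj x hx
  have h2 : F.f a * F.f a = 1 := hZ.sq htt
  have hne : a ≠ oneC := fun e => by
    obtain ⟨g, hg⟩ := hZ
    rw [e, F.one] at hg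
    exact t_ne_one F (conj_eq_one_iff.1 hg)
  have hc := cls_lt ha (F.inj (ha.mul ha) inC_one (by rw [F.mul ha ha, h2, F.one])) hne
  have hb := (conj_iff F hc).1 (isConj_iff.2 hZ)
  rw [hm] at hb
  obtain ⟨k, hk, hkk⟩ := to_rep F hc
  have hmem : F.f (repC (cls a)) ∈ col F := by
    rcases mask96_bits _ hc hb with e | e <;> rw [e]
    · rw [repz, F.fz]; exact t_mem_col F
    · have := repC_six_col
      simp only [inA, List.any_eq_true, List.mem_range, Nat.beq_eq] at this
      obtain ⟨j, hj, e'⟩ := this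
      exact ⟨j, hj, by rw [e']⟩
  have hk' : k⁻¹ * t = t * k⁻¹ := (Commute.inv_left (show Commute k t from hk)).eq
  have := conj_col F hk' hmem
  rwa [← hkk, inv_inv, show k⁻¹ * (k * F.f a * k⁻¹) * k = F.f a by group] at this

theorem zt_of_col (hm : mask F = 96) {a : G} (ha : a ∈ col F) (h1 : a ≠ 1) : ZT t a :=
  isConj_iff.1 (col_conj_t F (by rw [hm]; decide) ha h1)

/-- The stabiliser of a vector. -/
theorem exists_stab_iso (hm : mask F = 96) :
    ∃ v : Fin 5 → ZMod 2, v ≠ 0 ∧ Nonempty (G ≃* MulAction.stabilizer S5 v) := by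
  classical
  have hm' : mask F ∈ ([96, 113, 115] : List ℕ) := by rw [hm]; decide
  obtain ⟨h, hh⟩ := exists_P1_hom F hm'
  let cS : V4 → P1 := fun v => ⟨colS v, CS_le_P1 (colS_mem_CS v)⟩
  have hav : ∀ v, h (cS v) = av F v := fun v => hh _ _ (colS_mem_CS v)
  have hconj : ∀ (g : P1) (v : V4), g * cS v * g⁻¹ = cS ((blkS g).1.mulVec v) := by
    intro g v
    rw [mul_inv_eq_iff_eq_mul]
    refine Subtype.ext ?_
    show (g : S5) * colS v = colS ((blkS g).1.mulVec v) * (g : S5)
    rw [decompS g]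
    refine Subtype.ext ?_
    simp only [Matrix.SpecialLinearGroup.coe_mul, coe_colS, coe_embS]
    rw [Matrix.mul_assoc, embM_colM, ← Matrix.mul_assoc, ← Matrix.mul_assoc, colM_mul, colM_mul, add_comm]
  have hinj : Function.Injective h := by
    rw [injective_iff_map_eq_one]
    intro g hg
    have hB : (blkS g).1 = 1 := by
      ext i j
      have e : cS ((blkS g).1.mulVec (Pi.single j 1)) = cS (Pi.single j 1) := by
        refine Subtype.ext ?_
        have := av_inj F (a₁ := (blkS g).1.mulVec (Pi.single j 1)) (a₂ := Pi.single j 1) (by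
          rw [← hav, ← hav, ← hconj, map_mul, map_mul, map_inv, hg, one_mul, inv_one, mul_one])
        rw [this]
      have := congrArg (fun x : P1 => vecM ((x : S5) : M5) i) e
      simp only [cS, coe_colS] at this
      rw [show vecM (colM ((blkS g).1.mulVec (Pi.single j 1))) = (blkS g).1.mulVec (Pi.single j 1) by
          ext k; fin_cases k <;> rfl,
        show vecM (colM (Pi.single j 1 : V4)) = Pi.single j 1 by ext k; fin_cases k <;> rfl] at this
      simpa [Matrix.one_apply, Pi.single_apply] using this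
    have hg' : g = cS (vecM ((g : S5) : M5)) := Subtype.ext (by
      rw [show ((cS (vecM ((g : S5) : M5)) : P1) : S5) = colS (vecM ((g : S5) : M5)) from rfl]
      conv_lhs => rw [decompS g]
      rw [show blkS g = 1 from Subtype.ext hB, map_one, mul_one])
    rw [hg', hav] at hg
    rw [hg', av_inj F (hg.trans (av_zero F).symm)]
    exact Subtype.ext (Subtype.ext colM_zero)
  let H : Subgroup G := h.range
  have colH : ∀ {a : G}, a ∈ col F → a ∈ H := fun ha => by
    obtain ⟨v, rfl⟩ := (mem_col_av F).1 ha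
    exact ⟨cS v, hav v⟩
  have htt : t * t = 1 := sq_t F
  have htcol : ∃ v, v ≠ 0 ∧ v = Pi.single 0 1 ∧ av F v = t := by
    refine ⟨Pi.single 0 1, by decide, rfl, ?_⟩
    rw [show (Pi.single 0 1 : V4) = vj 8 by decide, av_vj F (by norm_num), colA_eight, F.fz]
  obtain ⟨e0, -, he0, hte⟩ := htcol
  subst he0
  have trans : ∀ v : V4, v ≠ 0 → ∃ g ∈ H, g * t * g⁻¹ = av F v := by
    intro v hv
    have hv' : ¬ (v 0 = 0 ∧ v 1 = 0 ∧ v 2 = 0 ∧ v 3 = 0) := fun ⟨a, b, c, d⟩ =>
      hv (by ext i; fin_cases i <;> assumption)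
    obtain ⟨-, h1, h2, -⟩ := firstCol_spec _ _ _ _ hv'
    obtain ⟨B, hB⟩ := exists_sl4 (show firstCol (v 0) (v 1) (v 2) (v 3) * (firstCol (v 0) (v 1) (v 2) (v 3) *
      (firstCol (v 0) (v 1) (v 2) (v 3) * firstCol (v 0) (v 1) (v 2) (v 3))) = 1 by
      simpa only [Matrix.mul_assoc] using h2)
    have hP : embS B ∈ P1 := embS_mem_P1 B
    have hblk : (blkS ⟨embS B, hP⟩).1 = B.1 := by
      rw [coe_blkS, coe_embS]
      ext i j; fin_cases i <;> fin_cases j <;> rfl
    refine ⟨h ⟨embS B, hP⟩, ⟨_, rfl⟩, ?_⟩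
    refine (congrArg (fun x => h ⟨embS B, hP⟩ * x * (h ⟨embS B, hP⟩)⁻¹) hte.symm).trans ?_
    rw [← hav, ← map_inv, ← map_mul, ← map_mul, hconj, hblk, hB, h1, hav]
    exact congrArg (av F) (by ext i; fin_cases i <;> rfl)
  have hsqA : ∀ v : V4, av F v * av F v = 1 := fun v => by
    rw [← av_add, show v + v = 0 by ext i; exact CharTwo.add_self_eq_zero _, av_zero]
  have hnormA : ∀ {g a : G}, g ∈ H → a ∈ col F → g * a * g⁻¹ ∈ col F := by
    rintro g a ⟨p, rfl⟩ ha
    obtain ⟨v, rfl⟩ := (mem_col_av F).1 ha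
    rw [← hav, ← map_inv, ← map_mul, ← map_mul, hconj, hav]
    exact (mem_col_av F).2 ⟨_, rfl⟩
  have centH : ∀ g : G, g * t = t * g → g ∈ H := fun g hg => by
    obtain ⟨c, hc⟩ := fm_surj F hg
    exact ⟨⟨c, CS_le_P1 c.2⟩, (hh c _ c.2).trans hc⟩
  have ztH : ∀ {x : G}, x ∈ H → ZT t x → x ∈ col F := by
    intro x hxH hx
    have hx2 : x * x = 1 := hx.sq htt
    have hxi : x⁻¹ = x := inv_eq_of_mul_eq_one_right hx2
    obtain ⟨a, ha, ha1, hax⟩ : ∃ a ∈ col F, a ≠ 1 ∧ x * a * x⁻¹ = a := by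
      by_cases hfix : x * t * x⁻¹ = t
      · exact ⟨t, t_mem_col F, t_ne_one F, hfix⟩
      · have htx := hnormA hxH (t_mem_col F)
        refine ⟨t * (x * t * x⁻¹), mul_mem (t_mem_col F) htx, fun e => hfix ?_, ?_⟩
        · rw [← inv_eq_of_mul_eq_one_right e, inv_eq_of_mul_eq_one_right htt]
        · rw [← conj_mul, col_comm F (t_mem_col F) htx]
          refine congrArg (x * t * x⁻¹ * ·) ?_
          rw [hxi, show x * (x * t * x) * x = (x * x) * t * (x * x) by group, hx2, one_mul, mul_one]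
    obtain ⟨v, rfl⟩ := (mem_col_av F).1 ha
    have hv : v ≠ 0 := fun e => ha1 (by rw [e, av_zero])
    obtain ⟨g, hg, hgt⟩ := trans v hv
    have hc : (g⁻¹ * x * g) * t = t * (g⁻¹ * x * g) := by
      calc (g⁻¹ * x * g) * t = g⁻¹ * (x * (g * t * g⁻¹) * x⁻¹) * (x * g) := by group
        _ = g⁻¹ * (g * t * g⁻¹) * (x * g) := by rw [hgt, hax]
        _ = t * (g⁻¹ * x * g) := by group
    have := hnormA hg (mem_col_of_zt F hm hc (by simpa using hx.conj g⁻¹))
    rwa [show g * (g⁻¹ * x * g) * g⁻¹ = x by group] at this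
  have hctrl : Ctrl H t := by
    refine ⟨htt, centH, fun g hg => ?_⟩
    obtain ⟨v, hv⟩ := (mem_col_av F).1 (ztH hg ⟨g, rfl⟩)
    obtain ⟨k, hk, hkt⟩ := trans v fun e => t_ne_one F (conj_eq_one_iff.1 (by rw [← hv, e, av_zero]))
    exact ⟨k, hk, hkt.trans hv⟩
  have hTnot : ∀ v, TP ≠ cS v := fun v e => by
    have h' : (blkS TP).1 = (blkS (cS v)).1 := by rw [e]
    rw [blk_TP, blk_colS] at h'
    exact absurd h' (by decide +kernel)
  have hcent : ∀ {a : V4}, a 2 = 0 → ∀ g : G, g * h (cS a * TP) = h (cS a * TP) * g → g ∈ H := by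
    intro a ha2 g hg
    by_contra hgH
    obtain ⟨U, hU⟩ : ∃ U, cS a * TP = U := ⟨_, rfl⟩
    rw [hU] at hg
    have hblkU : (blkS U).1 = Matrix.transvection 1 2 1 := by
      rw [← hU, map_mul, Matrix.SpecialLinearGroup.coe_mul, blk_TP, blk_colS, one_mul]
    have hcomm : ∀ w : V4, w 2 = 0 → av F w * h U = h U * av F w := by
      intro w hw
      have e := hconj U w
      rw [hblkU, fix_TB hw] at e
      have e' : U * cS w = cS w * U := mul_inv_eq_iff_eq_mul.1 e
      calc av F w * h U = h (cS w) * h U := by rw [hav]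
        _ = h (cS w * U) := (map_mul h _ _).symm
        _ = h (U * cS w) := by rw [e']
        _ = h U * h (cS w) := map_mul h _ _
        _ = h U * av F w := by rw [hav]
    have hne : av F (Pi.single 1 1) ≠ 1 := fun e => by
      have := av_inj F (e.trans (av_zero F).symm)
      revert this; decide
    have h1 : ZT t (av F (Pi.single 1 1)) := zt_of_col F hm ((mem_col_av F).2 ⟨_, rfl⟩) hne
    have h1H : av F (Pi.single 1 1) ∈ H := colH ((mem_col_av F).2 ⟨_, rfl⟩)
    have htu : t * h U = h U * t := by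
      have e := hcomm (Pi.single 0 1) (by decide +kernel)
      calc t * h U = av F (Pi.single 0 1) * h U := congrArg (· * h U) hte.symm
        _ = h U * av F (Pi.single 0 1) := e
        _ = h U * t := congrArg (h U * ·) hte
    have hUH : h U ∈ H := ⟨U, rfl⟩
    have hZt : ZT t t := ⟨1, by rw [one_mul, inv_one, mul_one]⟩
    obtain ⟨k, hk, hku, n, -, hno⟩ := hctrl.reach h1 h1H (hcomm _ (by decide +kernel)) hZt (centH t rfl) htu
      hUH hg hgH
    refine (hno 1).1 ?_
    rw [pow_one]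
    refine zt_of_col F hm (mul_mem ((mem_col_av F).2 ⟨_, rfl⟩) (hnormA hk (t_mem_col F))) fun e => ?_
    obtain ⟨p, rfl⟩ := hk
    have hp : p * U = U * p := hinj (by rw [map_mul, map_mul, hku])
    refine det_contra (B := blkS p) ?_ (av_inj F ?_)
    · have := congrArg (fun q : P1 => (blkS q).1) hp
      simp only [map_mul, Matrix.SpecialLinearGroup.coe_mul, hblkU] at this
      exact this
    · rw [← hav, ← hconj, map_mul, map_mul, map_inv, hav, ← inv_eq_of_mul_eq_one_right (hsqA (Pi.single 1 1))]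
      refine (congrArg (fun y => h p * y * (h p)⁻¹) hte).trans ?_
      exact (inv_eq_of_mul_eq_one_right e).symm
  have hcT : ∀ g : G, g * h TP = h TP * g → g ∈ H := fun g hg => hcent (a := 0) rfl g (by
    rwa [show cS 0 = 1 from Subtype.ext (Subtype.ext colM_zero), one_mul])
  have key : ∀ g : G, g * t * g⁻¹ ∈ H := by
    intro g
    by_contra hout
    obtain ⟨x, hx⟩ : ∃ x, x = g * t * g⁻¹ := ⟨_, rfl⟩
    rw [← hx] at hout
    set y := h TP with hy
    have hZx : ZT t x := ⟨g, hx.symm⟩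
    have hxx : x * x = 1 := hZx.sq htt
    have hyy : y * y = 1 := by rw [hy, ← map_mul, TP_sq, map_one]
    have hyH : y ∈ H := ⟨TP, rfl⟩
    have hyi : y⁻¹ = y := inv_eq_of_mul_eq_one_right hyy
    have hxi : x⁻¹ = x := inv_eq_of_mul_eq_one_right hxx
    have hyZ : ¬ ZT t y := fun hz => by
      obtain ⟨v, hv⟩ := (mem_col_av F).1 (ztH hyH hz)
      exact hTnot v (hinj (by rw [hav, hv]))
    rcases Nat.even_or_odd (orderOf (y * x)) with ⟨m, hm2⟩ | ⟨k, hk⟩
    swap
    · refine hyZ ?_
      rw [← conj_of_odd hyy hxx (k := k) (by rw [← hk, pow_orderOf_eq_one])]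
      exact hZx.conj _
    set d := y * x with hd
    set w := d ^ m with hw
    have hw1 : w ≠ 1 := fun e => by
      have h0 : 0 < orderOf d := orderOf_pos d
      have := Nat.le_of_dvd (by omega) (orderOf_dvd_of_pow_eq_one e)
      omega
    have hww : w * w = 1 := by rw [hw, ← pow_add, ← hm2, pow_orderOf_eq_one]
    have hwi : w⁻¹ = w := inv_eq_of_mul_eq_one_right hww
    have hyd : y * d * y⁻¹ = d⁻¹ := by rw [hd, mul_inv_rev, hxi, hyi, ← mul_assoc, hyy, one_mul]
    have hxd : x * d * x⁻¹ = d⁻¹ := by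
      rw [hd, mul_inv_rev, hxi, hyi, mul_assoc x (y * x) x, mul_assoc y x x, hxx, mul_one]
    have hyw : y * w = w * y := by
      have h' : y * w * y⁻¹ = w := by rw [hw, ← conj_pow, hyd, inv_pow, ← hw, hwi]
      exact mul_inv_eq_iff_eq_mul.1 h'
    have hxw : x * w = w * x := by
      have h' : x * w * x⁻¹ = w := by rw [hw, ← conj_pow, hxd, inv_pow, ← hw, hwi]
      exact mul_inv_eq_iff_eq_mul.1 h'
    have hwH : w ∈ H := hcT w hyw.symm
    have hwZ : ¬ ZT t w := fun hz => hout (hctrl.cent_le hz hwH hxw)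
    rcases Nat.even_or_odd m with ⟨j, hj⟩ | ⟨j, hj⟩
    · refine hwZ ?_
      set s := d ^ j with hs
      have hxs : x * s * x⁻¹ = s⁻¹ := by rw [hs, ← conj_pow, hxd, inv_pow]
      have hsw : s * s = w := by rw [hs, hw, hj, pow_add]
      have hsx : s * x * s⁻¹ = w * x := by
        calc s * x * s⁻¹ = s * (x * s * x⁻¹)⁻¹ * x := by group
          _ = s * s * x := by rw [hxs, inv_inv]
          _ = w * x := by rw [hsw]
      have hwx : ZT t (w * x) := hsx ▸ hZx.conj s
      have eg : g⁻¹ * x * g = t := by rw [hx]; group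
      have hc : (g⁻¹ * (w * x) * g) * t = t * (g⁻¹ * (w * x) * g) := by
        rw [← eg]
        calc g⁻¹ * (w * x) * g * (g⁻¹ * x * g) = g⁻¹ * ((w * x) * x) * g := by group
          _ = g⁻¹ * (x * (w * x)) * g := by rw [← mul_assoc x w x, hxw]
          _ = g⁻¹ * x * g * (g⁻¹ * (w * x) * g) := by group
      have hmem := mem_col_of_zt F hm hc (by simpa using hwx.conj g⁻¹)
      have hm2' := mul_mem hmem (t_mem_col F)
      have e : g⁻¹ * (w * x) * g * t = g⁻¹ * w * g := by
        rw [← eg]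
        calc g⁻¹ * (w * x) * g * (g⁻¹ * x * g) = g⁻¹ * (w * (x * x)) * g := by group
          _ = g⁻¹ * w * g := by rw [hxx, mul_one]
      rw [e] at hm2'
      have hz := (zt_of_col F hm hm2' fun e' => hw1 (by
        rwa [mul_assoc, inv_mul_eq_one, eq_comm, mul_eq_right] at e')).conj g
      rwa [show g * (g⁻¹ * w * g) * g⁻¹ = w by group] at hz
    · have hywx : y * w * x = w * d := by rw [hd, hyw]; group
      have hyw2 : (y * w) * (y * w) = 1 := by
        rw [mul_assoc, ← mul_assoc w y w, ← hyw, mul_assoc y w w, hww, mul_one, hyy]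
      have hZ : ZT t (y * w) := by
        rw [← conj_of_odd hyw2 hxx (k := j) (by
          rw [hywx, hw, ← pow_succ, ← pow_mul, ← hj, show (m + 1) * m = (m + m) * (j + 1) by rw [hj]; ring,
            pow_mul, ← hm2, pow_orderOf_eq_one, one_pow])]
        exact hZx.conj _
      obtain ⟨v, hv⟩ := (mem_col_av F).1 (ztH (mul_mem hyH hwH) hZ)
      have hyv : y * av F v * y⁻¹ = av F v := by
        rw [hv, ← mul_assoc y y w, hyy, one_mul, hyi, ← hyw]
      have hv2 : v 2 = 0 := by
        have e := hconj TP v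
        rw [blk_TP] at e
        have e' : av F ((Matrix.transvection (1 : Fin 4) 2 (1 : ZMod 2)).mulVec v) = av F v := by
          rw [← hav, ← e, map_mul, map_mul, map_inv, ← hy, hav, hyv]
        have e'' := av_inj F e'
        rw [show v = ![v 0, v 1, v 2, v 3] by ext i; fin_cases i <;> rfl] at e''
        exact eq_zero_of_fix _ _ _ _ e''
      have hwe' : h (cS v * TP) = w := by
        rw [map_mul, hav, hv, ← hy, mul_assoc, ← hyw, ← mul_assoc, hyy, one_mul]
      exact hout (hcent hv2 x (by rw [hwe']; exact hxw))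
  have htop : h.range = ⊤ := by
    refine eq_top_iff.2 fun g _ => ?_
    obtain ⟨k, hk, hkt⟩ := hctrl.fus g (key g)
    have hc : k⁻¹ * g ∈ H := centH _ (by
      calc k⁻¹ * g * t = k⁻¹ * (g * t * g⁻¹) * g := by group
        _ = k⁻¹ * (k * t * k⁻¹) * g := by rw [hkt]
        _ = t * (k⁻¹ * g) := by group)
    have := mul_mem hk hc
    rwa [mul_inv_cancel_left] at this
  obtain ⟨v, hv, ⟨φ⟩⟩ := exists_equiv_stab
  exact ⟨v, hv, ⟨(MulEquiv.ofBijective h ⟨hinj, MonoidHom.range_eq_top.1 htop⟩).symm.trans φ⟩⟩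

end Cfsg.Agent.TransvUniq.L52
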