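import Cfsg.Agent.Lib.HeUniq.Excl.Defs
import Cfsg.Agent.Lib.TransvUniq.L52.CompData

/-!
Checks: complements of the column group in the centraliser of a transvection are conjugate, and the centraliser of
the radical of the middle parabolic is that radical.
-/

set_option autoImplicit false
set_option maxRecDepth 100000
set_option Elab.async false

namespace Cfsg.Agent.TransvUniq.L52

open Cfsg.Agent.HeUniq.Model Cfsg.Agent.HeUniq.Excl

/-- the standard complement -/
def s0 (k : ℕ) : ℕ := cd (Nat.add (Nat.mul 128 (Nat.div k 8)) (Nat.mul 8 (Nat.mod k 8)))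

/-- the seventh power -/
def pow7 (x : ℕ) : ℕ := mC x (mC x (mC x (mC x (mC x (mC x x)))))

/-- a lift of the first generator of the right order is conjugate to it by the column group -/
def sylOK (j : ℕ) : Bool :=
  let x := mC (colA j) genA
  !Nat.beq (pow7 x) oneC || (List.range 16).any fun k => Nat.beq (mC (colA k) (mC genA (colA k))) x

/-- the value of a word -/
def evW (x y : ℕ) : List Bool → ℕ
  | [] => oneC
  | c :: w => mC (cond c y x) (evW x y w)

/-- a wrong lift of the second generator breaks a relation -/
def liftOK (j : ℕ) : Bool :=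
  Nat.beq j 0 || relWords.any fun w =>
    inA (evW genA (mC (colA j) genB) w) && !Nat.beq (evW genA (mC (colA j) genB) w) oneC

/-- an entry of the tree -/
def treeAt (n : ℕ) : ℕ := Nat.mod (Nat.shiftRight treeList (Nat.mul 23 n)) 8388608

/-- the element at a place -/
def nodeAt (n : ℕ) : ℕ := s0 (Nat.div (treeAt n) 4096)

/-- an edge of the tree -/
def edgeOK (n : ℕ) : Bool :=
  let p := Nat.mod (Nat.div (treeAt n) 2) 2048
  if n = 0 then Nat.beq (nodeAt n) oneC else
    Nat.blt p n && Nat.beq (mC (nodeAt p) (cond ((treeAt n).testBit 0) genB genA)) (nodeAt n)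

/-- the place of an index -/
def placeAt (k : ℕ) : ℕ := Nat.mod (Nat.shiftRight placeList (Nat.mul 11 k)) 2048

/-- every index occurs -/
def placeOK (k : ℕ) : Bool := Nat.blt (placeAt k) 1344 && Nat.beq (Nat.div (treeAt (placeAt k)) 4096) k

/-- the trivial column characterises the standard complement -/
def topOK (i : ℕ) : Bool :=
  (cd i).testBit 4 || (cd i).testBit 9 || (cd i).testBit 14 || (cd i).testBit 19 ||
    (Nat.beq (Nat.mod i 8) 0 && Nat.beq (Nat.mod (Nat.div i 64) 2) 0)

theorem syl_ok : allB sylOK 16 = true := by decide +kernel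

theorem lift_ok : allB liftOK 16 = true := by decide +kernel

theorem edge_ok : allB edgeOK 1344 = true := by decide +kernel

theorem treeLt_ok : allB (fun n => Nat.blt (Nat.div (treeAt n) 4096) 1344) 1344 = true := by decide +kernel

theorem place_ok : allB placeOK 1344 = true := by decide +kernel

theorem top0_ok : allB topOK 10752 = true := by decide +kernel

theorem top1_ok : allB (fun i => topOK (10752 + i)) 10752 = true := by decide +kernel

end Cfsg.Agent.TransvUniq.L52
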