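import Cfsg.Agent.Lib.TransvUniq.L52.Mats
import Cfsg.Agent.Lib.TransvUniq.L52.Comp
import Cfsg.Agent.Lib.HeUniq.Excl.Column
import Cfsg.Agent.Lib.Solvable.Gaschutz
import Cfsg.Agent.Lib.Classical.SL

/-!
In a group with the frame and the column group permuted transitively, the normaliser of the column group is the
hyperplane stabiliser of SL(5,2).
-/

set_option autoImplicit false
set_option maxRecDepth 20000
set_option linter.style.haveILetI false
set_option linter.unusedSectionVars false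
set_option maxHeartbeats 400000

namespace Cfsg.Agent.TransvUniq.L52

open Cfsg.Agent.HeUniq.Model Cfsg.Agent.HeUniq.Excl Cfsg.Agent.HeUniq.Fus Subgroup
open L5 (S5 M5 dec exists_of_mul)

variable {G : Type*} [Group G] {t : G} (F : Frame G t)

/-- The column group by vectors. -/
noncomputable def av (v : V4) : G := fm F ⟨colS v, colS_mem_CS v⟩

/-- The vector of an index. -/
def vj (j : ℕ) : V4 :=
  ![HeUniq.Bit.sc (j.testBit 3), HeUniq.Bit.sc (j.testBit 0), HeUniq.Bit.sc (j.testBit 1), HeUniq.Bit.sc (j.testBit 2)]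

theorem colA_mat : ∀ j : Fin 16, dec (colA j) = colM (vj j) := by decide +kernel

theorem vj_surj : ∀ a b c d : ZMod 2, ∃ j : Fin 16, vj j = ![a, b, c, d] := by decide +kernel

theorem av_add (v w : V4) : av F (v + w) = av F v * av F w := by
  rw [av, av, av, ← map_mul]
  exact congrArg (fm F) (Subtype.ext (colS_mul v w).symm)

theorem av_inj : Function.Injective (av F) := fun v w h => by
  have := congrArg (fun g : CS => vecM ((g : S5) : M5)) (fm_inj F h)
  simp only [coe_colS] at this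
  ext i
  have hi := congrFun this i
  fin_cases i <;> simpa [vecM, colM] using hi

theorem av_vj {j : ℕ} (hj : j < 16) : av F (vj j) = F.f (colA j) :=
  fm_code F (colA_inC hj) (colA_mat ⟨j, hj⟩).symm

variable [Finite G]

theorem mem_col_av {x : G} : x ∈ col F ↔ ∃ v, av F v = x := by
  rw [mem_col]
  constructor
  · rintro ⟨j, hj, rfl⟩; exact ⟨vj j, av_vj F hj⟩
  · rintro ⟨v, rfl⟩
    obtain ⟨j, hj⟩ := vj_surj (v 0) (v 1) (v 2) (v 3)
    refine ⟨j, j.2, ?_⟩
    rw [← av_vj F j.2, hj]
    exact congrArg (av F) (by ext i; fin_cases i <;> rfl)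

theorem av_conj {g : CS} {B : S4} (hg : (g : S5) = embS B) (v : V4) :
    fm F g * av F v * (fm F g)⁻¹ = av F (B.1.mulVec v) := by
  refine mul_inv_eq_iff_eq_mul.2 ?_
  rw [av, av, ← map_mul, ← map_mul]
  refine congrArg (fm F) (Subtype.ext (Subtype.ext ?_))
  simp only [Subgroup.coe_mul, Matrix.SpecialLinearGroup.coe_mul, hg, coe_embS, coe_colS]
  exact embM_colM B.1 v

theorem card_S4 : Nat.card S4 = 20160 := by
  haveI : Fact (Nat.Prime 2) := ⟨Nat.prime_two⟩
  have h := ClassicalSL.card_sl_mul (ι := Fin 4) (F := ZMod 2)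
  have h2 : Nat.card (ZMod 2) = 2 := Nat.card_zmod 2
  rw [h2, show (2 - 1 : ℕ) = 1 from rfl, one_mul, ClassicalSL.card_gl_fin h2 4, Fin.prod_univ_four] at h
  rw [h]
  simp

include F in
theorem card_cent : Nat.card (centralizer ({t} : Set G)) = 21504 := by
  have hmem : ∀ i : Fin 21504, F.f (cd i) ∈ centralizer ({t} : Set G) := fun i =>
    mem_centralizer_iff.2 fun y hy => by
      rw [Set.mem_singleton_iff.1 hy]; exact (F.cent (inC_cd i.2)).symm
  rw [← Nat.card_congr (Equiv.ofBijective (fun i : Fin 21504 => (⟨F.f (cd i), hmem i⟩ : centralizer ({t} : Set G)))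
    ⟨fun i j h => Fin.ext (cd_inj i.2 j.2 (F.inj (inC_cd i.2) (inC_cd j.2) (congrArg Subtype.val h))), fun x => by
      obtain ⟨a, ⟨i, hi, rfl⟩, he⟩ := F.surj x.1 (mem_centralizer_iff.1 x.2 t rfl).symm
      exact ⟨⟨i, hi⟩, Subtype.ext he⟩⟩), Nat.card_eq_fintype_card, Fintype.card_fin]

theorem row4_bits : ∀ j : Fin 5, HeUniq.Bit.sc ((16 : ℕ).testBit (j : ℕ)) = if j = 4 then 1 else 0 := by decide

theorem s0_inC {k : ℕ} (hk : k < 1344) : InC (s0 k) :=
  inC_cd (show 128 * (k / 8) + 8 * (k % 8) < 21504 by omega)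

theorem gen_codes : s0 48 = genA ∧ s0 275 = genB := by decide +kernel

theorem inC_genA : InC genA := gen_codes.1 ▸ s0_inC (by norm_num)

theorem inC_genB : InC genB := gen_codes.2 ▸ s0_inC (by norm_num)

theorem evW_inC {x y : ℕ} (hx : InC x) (hy : InC y) : ∀ w, InC (evW x y w)
  | [] => inC_one
  | c :: w => by cases c <;> [exact hx.mul (evW_inC hx hy w); exact hy.mul (evW_inC hx hy w)]

theorem evW_mem {L : Subgroup G} {x y : ℕ} (hx : InC x) (hy : InC y) (hxL : F.f x ∈ L) (hyL : F.f y ∈ L) :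
    ∀ w, F.f (evW x y w) ∈ L
  | [] => by rw [evW, F.one]; exact one_mem _
  | c :: w => by
    cases c
    · show F.f (mC x (evW x y w)) ∈ L
      rw [F.mul hx (evW_inC hx hy w)]; exact mul_mem hxL (evW_mem hx hy hxL hyL w)
    · show F.f (mC y (evW x y w)) ∈ L
      rw [F.mul hy (evW_inC hx hy w)]; exact mul_mem hyL (evW_mem hx hy hxL hyL w)

omit [Finite G] in
theorem pow7_eq {x : ℕ} (hx : InC x) : F.f (pow7 x) = F.f x ^ 7 := by
  rw [pow7, F.mul hx (hx.mul (hx.mul (hx.mul (hx.mul (hx.mul hx))))), F.mul hx (hx.mul (hx.mul (hx.mul (hx.mul hx)))),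
    F.mul hx (hx.mul (hx.mul (hx.mul hx))), F.mul hx (hx.mul (hx.mul hx)), F.mul hx (hx.mul hx), F.mul hx hx]
  simp only [pow_succ, pow_zero, one_mul, mul_assoc]

theorem pow7_genA : pow7 genA = oneC := by decide +kernel

theorem col_normalised {g : G} (hg : g * t = t * g) (hm : mask F ∈ ([96, 113, 115] : List ℕ)) :
    g ∈ normalizer (col F : Set G) := mem_normalizer_col F hm fun _ ha => conj_col F hg ha

theorem CS_le_P1 {g : S5} (hg : g ∈ CS) : g ∈ P1 := by
  obtain ⟨a, ⟨i, hi, rfl⟩, he⟩ := exists_code hg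
  intro j
  rw [← he]
  show HeUniq.Bit.sc ((cd i).testBit (5 * 4 + (j : ℕ))) = _
  rw [cd, mkC_pack _ _ _ _ (Nat.mod_lt _ (by norm_num)) (Nat.mod_lt _ (by norm_num)),
    HeUniq.Bit.testBit_pack (blockRow_lt _ _ _ _ (Nat.mod_lt _ (by norm_num)) (Nat.mod_lt _ (by norm_num)))
    5 4 j (by norm_num) j.2]
  exact row4_bits j

theorem fm_decomp (g : CS) : ∃ (v : V4) (B : S4) (h : embS B ∈ CS), fm F g = av F v * fm F ⟨embS B, h⟩ := by
  have hgP : (g : S5) ∈ P1 := CS_le_P1 g.2
  obtain ⟨v, hv⟩ : ∃ v, vecM ((g : S5) : M5) = v := ⟨_, rfl⟩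
  obtain ⟨B, hB⟩ : ∃ B, blkS (⟨(g : S5), hgP⟩ : P1) = B := ⟨_, rfl⟩
  have hd : (g : S5) = colS v * embS B := by rw [← hv, ← hB]; exact decompS (⟨(g : S5), hgP⟩ : P1)
  have hBC : embS B ∈ CS := by
    rw [show embS B = (colS v)⁻¹ * (g : S5) by rw [hd, inv_mul_cancel_left]]
    exact mul_mem (inv_mem (colS_mem_CS v)) g.2
  refine ⟨v, B, hBC, ?_⟩
  rw [av, ← map_mul]
  exact congrArg (fm F) (Subtype.ext hd)

/-- A complement of the column group in its normaliser. -/
structure Compl (L : Subgroup G) : Prop where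
  le : L ≤ normalizer (col F : Set G)
  inf : L ⊓ col F = ⊥
  sup : ∀ n ∈ normalizer (col F : Set G), ∃ a ∈ col F, ∃ l ∈ L, n = a * l

omit [Finite G] in
theorem exists_compl [Finite G] (hm : mask F ∈ ([96, 113, 115] : List ℕ)) : ∃ L : Subgroup G, Compl F L := by
  classical
  let N : Subgroup G := normalizer (col F : Set G)
  have hCN : centralizer ({t} : Set G) ≤ N := fun g hg =>
    col_normalised F (mem_centralizer_iff.1 hg t rfl).symm hm
  have hAC : col F ≤ centralizer ({t} : Set G) := fun g hg => mem_centralizer_iff.2 fun y hy => by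
    rw [Set.mem_singleton_iff.1 hy]; exact col_comm F (t_mem_col F) hg
  have hAN : col F ≤ N := le_normalizer
  let K : Subgroup N := (col F).subgroupOf N
  let U : Subgroup N := (centralizer ({t} : Set G)).subgroupOf N
  haveI : K.Normal := normal_subgroupOf_of_le_normalizer le_rfl
  haveI : IsMulCommutative K := ⟨⟨fun a b => Subtype.ext (Subtype.ext (col_comm F a.2 b.2))⟩⟩
  have hU : Nat.card U = 21504 := by
    rw [Nat.card_congr (subgroupOfEquivOfLe hCN).toEquiv, card_cent F]
  have hidx : U.index = 15 := by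
    let X := {a : G // a ∈ col F ∧ a ≠ 1}
    let φ : N ⧸ U → X := Quotient.lift
      (fun n : N => (⟨(n : G) * t * (n : G)⁻¹, (mem_normalizer_iff.1 n.2 t).1 (t_mem_col F),
        fun h => HeUniq.Fus.t_ne_one F (conj_eq_one_iff.1 h)⟩ : X))
      (fun a b hab => by
        have hab' : a⁻¹ * b ∈ U := QuotientGroup.leftRel_apply.1 hab
        have hc : ((a : G)⁻¹ * b) * t = t * ((a : G)⁻¹ * b) :=
          (mem_centralizer_iff.1 (show ((a : G)⁻¹ * b) ∈ centralizer ({t} : Set G) from hab') t rfl).symm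
        refine Subtype.ext ?_
        calc (a : G) * t * (a : G)⁻¹ = (a : G) * (t * ((a : G)⁻¹ * b)) * (b : G)⁻¹ := by group
          _ = (a : G) * (((a : G)⁻¹ * b) * t) * (b : G)⁻¹ := by rw [hc]
          _ = (b : G) * t * (b : G)⁻¹ := by group)
    have hφ : Function.Bijective φ := by
      constructor
      · intro x y
        induction x using QuotientGroup.induction_on with
        | H a => induction y using QuotientGroup.induction_on with
          | H b =>
            intro h
            have h' : (a : G) * t * (a : G)⁻¹ = (b : G) * t * (b : G)⁻¹ := congrArg Subtype.val h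
            refine QuotientGroup.eq.2 (show ((a : G)⁻¹ * b) ∈ centralizer ({t} : Set G) from
              mem_centralizer_iff.2 fun y hy => ?_)
            rw [Set.mem_singleton_iff.1 hy]
            calc t * ((a : G)⁻¹ * b) = (a : G)⁻¹ * ((a : G) * t * (a : G)⁻¹) * b := by group
              _ = (a : G)⁻¹ * ((b : G) * t * (b : G)⁻¹) * b := by rw [h']
              _ = _ := by group
      · rintro ⟨a, ha, ha1⟩
        obtain ⟨n, hn, hnt⟩ := exists_normalizer F hm ha ha1
        exact ⟨QuotientGroup.mk (⟨n, hn⟩ : N), Subtype.ext hnt⟩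
    rw [index, Nat.card_congr (Equiv.ofBijective φ hφ)]
    have h16 := card_col F
    have : Nat.card X + 1 = 16 := by
      rw [← h16, ← Nat.card_congr (Equiv.sumCompl (fun x : col F => (x : G) = 1)), Nat.card_sum,
        Nat.card_congr (show {x : col F // ¬ (x : G) = 1} ≃ X from
          Equiv.subtypeSubtypeEquivSubtypeInter (fun x : G => x ∈ col F) fun x => ¬ x = 1)]
      haveI : Unique {x : col F // (x : G) = 1} :=
        ⟨⟨⟨1, rfl⟩⟩, fun x => Subtype.ext (Subtype.ext x.2)⟩
      rw [Nat.card_unique (α := {x : col F // (x : G) = 1})]; omega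
    omega
  let S : Subgroup G := ((CS.comap embS).map embS).subgroupOf CS |>.map (fm F)
  have hSC : S ≤ centralizer ({t} : Set G) := by
    rintro _ ⟨g, -, rfl⟩
    exact mem_centralizer_iff.2 fun y hy => by rw [Set.mem_singleton_iff.1 hy]; exact (fm_cent F g).symm
  have hSA : S ⊓ col F = ⊥ := by
    rw [eq_bot_iff]
    rintro x ⟨⟨g, hg, rfl⟩, hx⟩
    obtain ⟨B, -, hB⟩ := hg
    obtain ⟨v, hv⟩ := (mem_col_av F).1 hx
    have e : colS v = (g : S5) := congrArg Subtype.val (fm_inj F hv)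
    have hv0 : v = 0 := colM_eq_embM (B := B.1) (by
      rw [← coe_colS, e, ← coe_embS]; exact congrArg Subtype.val hB.symm)
    refine mem_bot.2 (hv.symm.trans ?_)
    rw [hv0]
    exact mul_eq_left.1 ((av_add F 0 0).symm.trans (by rw [add_zero]))
  let A' : Subgroup N := S.subgroupOf N
  obtain ⟨H, hH⟩ := SolvGaschutz.existence (K := K) (U := U) (fun x hx => hAC hx)
    (by
      rw [hidx, Nat.card_congr (subgroupOfEquivOfLe hAN).toEquiv, card_col F]; norm_num)
    (A := A') (fun x hx => hSC hx)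
    (by
      rw [eq_bot_iff]
      rintro x ⟨hxS, hxK⟩
      exact mem_bot.2 (Subtype.ext (mem_bot.1 (hSA ▸ (⟨hxS, hxK⟩ : (x : G) ∈ S ⊓ col F)))))
    (by
      refine le_antisymm (sup_le (fun x hx => hAC hx) fun x hx => hSC hx) fun x hx => ?_
      obtain ⟨g, hg⟩ := fm_surj F (mem_centralizer_iff.1 (show (x : G) ∈ centralizer ({t} : Set G) from hx) t rfl).symm
      obtain ⟨v, B, hBC, hgd⟩ := fm_decomp F g
      have h1 : av F v ∈ N := hAN ((mem_col_av F).2 ⟨v, rfl⟩)
      have h2 : fm F ⟨embS B, hBC⟩ ∈ S := ⟨_, ⟨B, hBC, rfl⟩, rfl⟩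
      have e : x = (⟨av F v, h1⟩ : N) * ⟨fm F ⟨embS B, hBC⟩, hCN (hSC h2)⟩ := Subtype.ext (by
        show (x : G) = av F v * fm F _
        rw [← hg, hgd])
      rw [e]
      exact mul_mem (mem_sup_left (show av F v ∈ col F from (mem_col_av F).2 ⟨v, rfl⟩))
        (mem_sup_right (show fm F ⟨embS B, hBC⟩ ∈ S from h2)))
  refine ⟨H.map N.subtype, ?_, ?_, ?_⟩
  · rintro _ ⟨n, -, rfl⟩; exact n.2
  · rw [eq_bot_iff]
    rintro x ⟨⟨n, hn, rfl⟩, hx⟩
    have : n ∈ K ⊓ H := ⟨hx, hn⟩
    rw [hH.disjoint.eq_bot, mem_bot] at this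
    rw [this]; exact one_mem _
  · intro n hn
    obtain ⟨⟨⟨a, ha⟩, ⟨l, hl⟩⟩, he⟩ := hH.2 (⟨n, hn⟩ : N)
    exact ⟨(a : G), ha, (l : G), ⟨l, hl, rfl⟩, (congrArg Subtype.val he).symm⟩

/-- A complement containing the standard complement of the centraliser. -/
theorem exists_std_compl (hm : mask F ∈ ([96, 113, 115] : List ℕ)) :
    ∃ L : Subgroup G, Compl F L ∧ ∀ (B : S4) (h : embS B ∈ CS), fm F ⟨embS B, h⟩ ∈ L := by
  obtain ⟨L₀, h₀⟩ := exists_compl F hm
  have hN : ∀ {c : ℕ}, InC c → F.f c ∈ normalizer (col F : Set G) := fun hc => col_normalised F (F.cent hc) hm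
  have hA1 : ∀ {L : Subgroup G}, Compl F L → ∀ {c : ℕ}, InC c → ∃ j < 16, F.f (mC (colA j) c) ∈ L := by
    intro L hL c hc
    obtain ⟨a, ha, l, hl, he⟩ := hL.sup _ (hN hc)
    obtain ⟨j, hj, hja⟩ := (mem_col F).1 (inv_mem ha)
    refine ⟨j, hj, ?_⟩
    rw [F.mul (colA_inC hj) hc, hja, he, inv_mul_cancel_left]
    exact hl
  obtain ⟨j, hj, hjL⟩ := hA1 h₀ inC_genA
  have hx := (colA_inC hj).mul inC_genA
  have h7 : pow7 (mC (colA j) genA) = oneC := by
    have hcol : F.f (mC (colA j) genA) ^ 7 ∈ col F := by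
      have key : ∀ n : ℕ, F.f (mC (colA j) genA) ^ n * (F.f genA ^ n)⁻¹ ∈ col F := by
        intro n
        induction n with
        | zero => simp [one_mem]
        | succ n ih =>
          have ha : F.f (mC (colA j) genA) * (F.f genA)⁻¹ ∈ col F := by
            rw [F.mul (colA_inC hj) inC_genA, mul_inv_cancel_right]; exact col_f F hj
          have := (mem_normalizer_iff.1 (pow_mem (hN hx) n) _).1 ha
          have := mul_mem this ih
          rw [pow_succ, pow_succ]
          simp only [mul_inv_rev, mul_assoc, inv_mul_cancel_left] at this ⊢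
          exact this
      have := key 7
      rwa [← pow7_eq F inC_genA, pow7_genA, F.one, inv_one, mul_one] at this
    have : F.f (mC (colA j) genA) ^ 7 ∈ L₀ ⊓ col F := ⟨pow_mem hjL _, hcol⟩
    rw [h₀.inf, mem_bot, ← pow7_eq F hx, ← F.one] at this
    refine F.inj ?_ inC_one this
    exact hx.mul (hx.mul (hx.mul (hx.mul (hx.mul (hx.mul hx)))))
  have hs := allB_spec syl_ok j hj
  simp only [sylOK, h7, Nat.beq_refl, Bool.not_true, Bool.false_or, List.any_eq_true, List.mem_range,
    Nat.beq_eq] at hs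
  obtain ⟨k, hk, hkx⟩ := hs
  set z := F.f (colA k) with hz
  have hzA : z ∈ col F := col_f F hk
  have hzN : z ∈ normalizer (col F : Set G) := le_normalizer hzA
  let L : Subgroup G := L₀.map (MulAut.conj z⁻¹).toMonoidHom
  have hmemL : ∀ {x : G}, x ∈ L ↔ z * x * z⁻¹ ∈ L₀ := by
    intro x
    constructor
    · rintro ⟨y, hy, rfl⟩
      rwa [MulEquiv.coe_toMonoidHom, MulAut.conj_apply, inv_inv,
        show z * (z⁻¹ * y * z) * z⁻¹ = y by group]
    · intro h
      exact ⟨_, h, by rw [MulEquiv.coe_toMonoidHom, MulAut.conj_apply, inv_inv]; group⟩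
  have hL : Compl F L := by
    refine ⟨fun x hx' => ?_, ?_, fun n hn => ?_⟩
    · have := mul_mem (mul_mem (inv_mem hzN) (h₀.le (hmemL.1 hx'))) hzN
      rwa [show z⁻¹ * (z * x * z⁻¹) * z = x by group] at this
    · rw [eq_bot_iff]
      rintro x ⟨hxL, hxA⟩
      have hxA' : x ∈ col F := hxA
      have hc : z * x * z⁻¹ ∈ col F := mul_mem (mul_mem hzA hxA') (inv_mem hzA)
      have : z * x * z⁻¹ ∈ L₀ ⊓ col F := ⟨hmemL.1 hxL, hc⟩
      rw [h₀.inf, mem_bot, conj_eq_one_iff] at this
      exact mem_bot.2 this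
    · obtain ⟨a, ha, l, hl, he⟩ := h₀.sup _ (mul_mem (mul_mem hzN hn) (inv_mem hzN))
      refine ⟨z⁻¹ * a * z, mul_mem (mul_mem (inv_mem hzA) ha) hzA, z⁻¹ * l * z, hmemL.2 (by
        rw [show z * (z⁻¹ * l * z) * z⁻¹ = l by group]; exact hl), ?_⟩
      calc n = z⁻¹ * (z * n * z⁻¹) * z := by group
        _ = z⁻¹ * (a * l) * z := by rw [he]
        _ = _ := by group
  have hinvz : z⁻¹ = z := inv_eq_of_mul_eq_one_right (by
    rw [hz, ← F.mul (colA_inC hk) (colA_inC hk), colA_mul hk hk, Nat.xor_self, colA_zero, F.one])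
  have haL : F.f genA ∈ L := hmemL.2 (by
    rw [hinvz, hz, mul_assoc, ← F.mul inC_genA (colA_inC hk), ← F.mul (colA_inC hk) (inC_genA.mul (colA_inC hk)),
      hkx]
    exact hjL)
  obtain ⟨i, hi, hiL⟩ := hA1 hL inC_genB
  have hi0 : i = 0 := by
    by_contra hne
    have hl := allB_spec lift_ok i hi
    simp only [liftOK, Bool.or_eq_true, Nat.beq_eq, List.any_eq_true, Bool.and_eq_true, Bool.not_eq_true'] at hl
    obtain ⟨w, -, hwA, hw1⟩ := hl.resolve_left hne
    have hy := (colA_inC hi).mul inC_genB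
    simp only [inA, List.any_eq_true, List.mem_range, Nat.beq_eq] at hwA
    obtain ⟨r, hr, hre⟩ := hwA
    have : F.f (evW genA (mC (colA i) genB) w) ∈ L ⊓ col F :=
      ⟨evW_mem F inC_genA hy haL hiL w, hre ▸ col_f F hr⟩
    rw [hL.inf, mem_bot, ← F.one] at this
    rw [F.inj (evW_inC inC_genA hy w) inC_one this, Nat.beq_refl] at hw1
    exact Bool.noConfusion hw1
  have hbL : F.f genB ∈ L := by
    rw [hi0, colA_zero, F.mul inC_one inC_genB, F.one, one_mul] at hiL
    exact hiL
  have hnode : ∀ n < 1344, F.f (nodeAt n) ∈ L := by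
    intro n
    induction n using Nat.strong_induction_on with
    | _ n ih =>
      intro hn
      have he := allB_spec edge_ok n hn
      simp only [edgeOK] at he
      by_cases h0 : n = 0
      · rw [if_pos h0, Nat.beq_eq] at he
        rw [he, F.one]; exact one_mem _
      · rw [if_neg h0, Bool.and_eq_true, Nat.blt_eq, Nat.beq_eq] at he
        obtain ⟨hp, hstep⟩ := he
        change treeAt n / 2 % 2048 < n at hp
        change mC (nodeAt (treeAt n / 2 % 2048)) _ = _ at hstep
        have hpn : InC (nodeAt ((treeAt n / 2) % 2048)) := by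
          have h1 : treeAt ((treeAt n / 2) % 2048) < 8388608 := Nat.mod_lt _ (by norm_num)
          refine inC_cd ?_
          show 128 * (treeAt ((treeAt n / 2) % 2048) / 4096 / 8) + 8 * (treeAt ((treeAt n / 2) % 2048) / 4096 % 8)
            < 21504
          have h2 := allB_spec treeLt_ok ((treeAt n / 2) % 2048) (by omega)
          rw [Nat.blt_eq] at h2
          change treeAt (treeAt n / 2 % 2048) / 4096 < 1344 at h2
          omega
        rw [← hstep]
        cases (treeAt n).testBit 0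
        · rw [cond_false, F.mul hpn inC_genA]; exact mul_mem (ih _ hp (by omega)) haL
        · rw [cond_true, F.mul hpn inC_genB]; exact mul_mem (ih _ hp (by omega)) hbL
  refine ⟨L, hL, fun B hB => ?_⟩
  obtain ⟨a, ⟨i', hi', rfl⟩, he⟩ := exists_code hB
  have hbit : ∀ q < 4, (cd i').testBit (5 * q + 4) = false := by
    intro q hq
    have h := congrFun (congrFun he ⟨q, by omega⟩) 4
    rw [coe_embS] at h
    refine HeUniq.Bit.sc_inj (h.trans ?_)
    interval_cases q <;> rfl
  have htop : topOK i' = true := by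
    rcases Nat.lt_or_ge i' 10752 with h | h
    · exact allB_spec top0_ok i' h
    · exact allB_chunk top1_ok h (by omega)
  simp only [topOK, hbit 0 (by norm_num), hbit 1 (by norm_num), hbit 2 (by norm_num), hbit 3 (by norm_num),
    Bool.false_or, Bool.and_eq_true, Nat.beq_eq] at htop
  obtain ⟨hu0, hc0⟩ := htop
  have hu0' : i' % 8 = 0 := hu0
  have hc0' : i' / 64 % 2 = 0 := hc0
  have hk' : i' / 128 * 8 + i' / 8 % 8 < 1344 := by omega
  have e : s0 (i' / 128 * 8 + i' / 8 % 8) = cd i' := by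
    show cd (128 * ((i' / 128 * 8 + i' / 8 % 8) / 8) + 8 * ((i' / 128 * 8 + i' / 8 % 8) % 8)) = cd i'
    congr 1; omega
  have hp := allB_spec place_ok _ hk'
  simp only [placeOK, Bool.and_eq_true, Nat.blt_eq, Nat.beq_eq] at hp
  rw [fm_code F (inC_cd hi') he.symm, ← e]
  have := hnode _ hp.1
  rwa [nodeAt, hp.2] at this

theorem av_zero : av F 0 = 1 :=
  mul_eq_left.1 ((av_add F 0 0).symm.trans (by rw [add_zero]))

theorem exists_act {g : G} (hg : g ∈ normalizer (col F : Set G)) :
    ∃ M : Matrix (Fin 4) (Fin 4) (ZMod 2), ∀ v, g * av F v * g⁻¹ = av F (M.mulVec v) := by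
  have h : ∀ v, ∃ w, av F w = g * av F v * g⁻¹ := fun v =>
    (mem_col_av F).1 ((mem_normalizer_iff.1 hg _).1 ((mem_col_av F).2 ⟨v, rfl⟩))
  choose c hc using h
  have hadd : ∀ v w, c (v + w) = c v + c w := fun v w => av_inj F (by
    rw [av_add, hc, hc, hc, av_add, conj_mul])
  have hlin : ∀ (r : ZMod 2) (v : V4), c (r • v) = r • c v := by
    intro r v
    have h0 : c 0 = 0 := av_inj F (by rw [hc, av_zero, mul_one, mul_inv_cancel])
    have : ∀ r : ZMod 2, r = 0 ∨ r = 1 := by decide
    rcases this r with rfl | rfl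
    · rw [zero_smul, zero_smul, h0]
    · rw [one_smul, one_smul]
  let l : V4 →ₗ[ZMod 2] V4 := { toFun := c, map_add' := hadd, map_smul' := hlin }
  exact ⟨LinearMap.toMatrix' l, fun v => by rw [LinearMap.toMatrix'_mulVec]; exact (hc v).symm⟩

theorem act_unique {g : G} {M M' : Matrix (Fin 4) (Fin 4) (ZMod 2)} (h : ∀ v, g * av F v * g⁻¹ = av F (M.mulVec v))
    (h' : ∀ v, g * av F v * g⁻¹ = av F (M'.mulVec v)) : M = M' := by
  ext i j
  have := congrFun (av_inj F ((h (Pi.single j 1)).symm.trans (h' (Pi.single j 1)))) i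
  simpa using this

/-- The hyperplane stabiliser inside the group. -/
theorem exists_P1_hom (hm : mask F ∈ ([96, 113, 115] : List ℕ)) :
    ∃ h : P1 →* G, ∀ (g : S5) (hg : g ∈ P1) (hC : g ∈ CS), h ⟨g, hg⟩ = fm F ⟨g, hC⟩ := by
  obtain ⟨L, hL, hstd⟩ := exists_std_compl F hm
  have hex : ∀ l : L, ∃ B : S4, ∀ v, (l : G) * av F v * (l : G)⁻¹ = av F (B.1.mulVec v) := by
    intro l
    obtain ⟨M, hM⟩ := exists_act F (hL.le l.2)
    obtain ⟨M', hM'⟩ := exists_act F (hL.le (inv_mem l.2))
    have e : M * M' = 1 := act_unique F (g := 1) (fun v => by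
      rw [← Matrix.mulVec_mulVec, ← hM, ← hM']
      group) (fun v => by rw [Matrix.one_mulVec]; group)
    obtain ⟨B, rfl⟩ := exists_sl4 e
    exact ⟨B, hM⟩
  choose ρ hρ using hex
  let ρh : L →* S4 := MonoidHom.mk' ρ fun a b => Subtype.ext (act_unique F (g := ((a * b : L) : G))
    (hρ _) fun v => by
      rw [Matrix.SpecialLinearGroup.coe_mul, ← Matrix.mulVec_mulVec, ← hρ, ← hρ, Subgroup.coe_mul]
      group)
  have hinj : Function.Injective ρh := by
    rw [injective_iff_map_eq_one]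
    intro l hl
    have hl' : ρ l = 1 := hl
    have hlA : (l : G) ∈ col F := cent_col F fun a ha => by
      obtain ⟨v, rfl⟩ := (mem_col_av F).1 ha
      have := hρ l v
      rw [hl', Matrix.SpecialLinearGroup.coe_one, Matrix.one_mulVec] at this
      exact mul_inv_eq_iff_eq_mul.1 this
    have : (l : G) ∈ L ⊓ col F := ⟨l.2, hlA⟩
    rw [hL.inf, mem_bot] at this
    exact Subtype.ext this
  have hsurj : Function.Surjective ρh := by
    refine (hinj.bijective_of_nat_card_le ?_).2
    let N : Subgroup G := normalizer (col F : Set G)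
    have hle : Nat.card N ≤ 16 * Nat.card L := by
      rw [← card_col F, ← Nat.card_prod]
      refine Nat.card_le_card_of_surjective (fun p : col F × L => (⟨(p.1 : G) * p.2,
        mul_mem (le_normalizer p.1.2) (hL.le p.2.2)⟩ : N)) fun n => ?_
      obtain ⟨a, ha, l, hl, he⟩ := hL.sup _ n.2
      exact ⟨(⟨a, ha⟩, ⟨l, hl⟩), Subtype.ext he.symm⟩
    have hN : 15 * 21504 ≤ Nat.card N := by
      let U : Subgroup N := (centralizer ({t} : Set G)).subgroupOf N
      have hCN : centralizer ({t} : Set G) ≤ N := fun g hg =>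
        col_normalised F (mem_centralizer_iff.1 hg t rfl).symm hm
      have hU : Nat.card U = 21504 := by
        rw [Nat.card_congr (subgroupOfEquivOfLe hCN).toEquiv, card_cent F]
      have hex : ∀ a : {x : col F // (x : G) ≠ 1}, ∃ n : N, (n : G) * t * (n : G)⁻¹ = (a : G) := fun a => by
        obtain ⟨n, hn, e⟩ := exists_normalizer F hm a.1.2 a.2
        exact ⟨⟨n, hn⟩, e⟩
      choose r hr using hex
      have h15 : Nat.card {x : col F // (x : G) ≠ 1} = 15 := by
        classical
        have : Nat.card {x : col F // (x : G) ≠ 1} + 1 = 16 := by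
          rw [← card_col F, ← Nat.card_congr (Equiv.sumCompl (fun x : col F => (x : G) = 1)), Nat.card_sum]
          simp only [ne_eq]
          haveI : Unique {x : col F // (x : G) = 1} :=
            ⟨⟨⟨1, rfl⟩⟩, fun x => Subtype.ext (Subtype.ext x.2)⟩
          rw [Nat.card_unique (α := {x : col F // (x : G) = 1})]; omega
        omega
      rw [← hU, ← h15, ← Nat.card_prod]
      refine Nat.card_le_card_of_injective (fun p => r p.1 * (p.2 : N)) fun p q e => ?_
      have hfix : ∀ p : {x : col F // (x : G) ≠ 1} × U,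
          ((r p.1 * (p.2 : N) : N) : G) * t * ((r p.1 * (p.2 : N) : N) : G)⁻¹ = ((p.1 : col F) : G) := by
        intro p
        have hc : ((p.2 : N) : G) * t = t * ((p.2 : N) : G) :=
          (mem_centralizer_iff.1 (show ((p.2 : N) : G) ∈ centralizer ({t} : Set G) from p.2.2) t rfl).symm
        rw [Subgroup.coe_mul, ← hr p.1]
        calc (r p.1 : G) * ((p.2 : N) : G) * t * ((r p.1 : G) * ((p.2 : N) : G))⁻¹
            = (r p.1 : G) * (((p.2 : N) : G) * t) * ((p.2 : N) : G)⁻¹ * (r p.1 : G)⁻¹ := by group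
          _ = (r p.1 : G) * (t * ((p.2 : N) : G)) * ((p.2 : N) : G)⁻¹ * (r p.1 : G)⁻¹ := by rw [hc]
          _ = _ := by group
      have e1 : p.1 = q.1 := Subtype.ext (Subtype.ext (by
        rw [← hfix p, ← hfix q]; exact congrArg (fun x : N => (x : G) * t * (x : G)⁻¹) e))
      have e2 : r p.1 * (p.2 : N) = r q.1 * (q.2 : N) := e
      rw [e1] at e2
      exact Prod.ext e1 (Subtype.ext (mul_left_cancel e2))
    rw [card_S4]; omega
  let e : L ≃* S4 := MulEquiv.ofBijective ρh ⟨hinj, hsurj⟩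
  have hsec : ∀ (B : S4) (v : V4), (e.symm B : G) * av F v * (e.symm B : G)⁻¹ = av F (B.1.mulVec v) := by
    intro B v
    have : ρ (e.symm B) = B := e.apply_symm_apply B
    rw [hρ, this]
  refine ⟨MonoidHom.mk' (fun g : P1 => av F (vecM (g : S5).1) * (e.symm (blkS g) : G)) fun g k => ?_, ?_⟩
  · show av F (vecM ((g * k : P1) : S5).1) * (e.symm (blkS (g * k)) : G) = _
    rw [map_mul, map_mul, Subgroup.coe_mul, Subgroup.coe_mul, Matrix.SpecialLinearGroup.coe_mul,
      vecM_mul (mem_P1.1 k.2), av_add, ← coe_blkS, ← hsec]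
    group
  · intro g hg hC
    show av F (vecM g.1) * (e.symm (blkS ⟨g, hg⟩) : G) = _
    have hd := decompS (⟨g, hg⟩ : P1)
    have hBC : embS (blkS ⟨g, hg⟩) ∈ CS := by
      rw [show embS (blkS ⟨g, hg⟩) = (colS (vecM g.1))⁻¹ * g by
        conv_rhs => arg 2; rw [show g = _ from hd]
        rw [inv_mul_cancel_left]]
      exact mul_mem (inv_mem (colS_mem_CS _)) hC
    have he : e ⟨fm F ⟨_, hBC⟩, hstd _ hBC⟩ = blkS ⟨g, hg⟩ :=
      Subtype.ext (act_unique F (g := fm F ⟨_, hBC⟩) (hρ ⟨fm F ⟨_, hBC⟩, hstd _ hBC⟩) fun v => av_conj F rfl v)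
    rw [← he, e.symm_apply_apply]
    show fm F _ * fm F _ = _
    rw [← map_mul]
    exact congrArg (fm F) (Subtype.ext hd.symm)

end Cfsg.Agent.TransvUniq.L52
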