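import Cfsg.Agent.Lib.TransvUniq.L52.Root
import Cfsg.Agent.Lib.TransvUniq.L52.Parab

/-!
After a twist by the central involution the root elements outside the common part commute.
-/

set_option autoImplicit false
set_option maxRecDepth 20000
set_option linter.unusedSectionVars false

namespace Cfsg.Agent.TransvUniq.L52

open Cfsg.Agent.HeUniq.Model
open scoped commutatorElement
open L5 (S5 M5 dec)

variable {G : Type*} [Group G] {t : G} {F : Frame G t}

theorem conj_of_brac {p g h : G} (e : ⁅p, g⁆ = h) : p * g * p⁻¹ = h * g := by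
  rw [← e, commutatorElement_def, inv_mul_cancel_right]

theorem fix_of_comm {p g : G} (e : Commute p g) : p * g * p⁻¹ = g := by rw [e.eq, mul_inv_cancel_right]

theorem conj_code {F' : Frame G t} {h : P1 →* G} (hh : Ext F' h) {i : Fin 5} (hi : i ≠ 4) (hi0 : i ≠ 0) {c : ℕ}
    (hc : InC c) (hcz : mC (mC (mC (tc i 0) c) (tc i 0)) zC = mC zC (mC (mC (tc i 0) c) (tc i 0)))
    (hfix : YA h i 0 * F'.f c * YA h i 0 = F'.f c) : mC (mC (tc i 0) c) (tc i 0) = c := by
  obtain ⟨g, hgC, hg⟩ := exists_elem hc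
  have hgP := CS_le_P1 hgC
  have hlt : mC (mC (tc i 0) c) (tc i 0) < 2 ^ 25 := by rw [mC_eq]; exact HeUniq.Bit.bmul_lt 5 _ _
  have hcoe : ((tv i 0 * g * tv i 0 : S5) : M5) = dec (mC (mC (tc i 0) c) (tc i 0)) := by
    rw [Matrix.SpecialLinearGroup.coe_mul, Matrix.SpecialLinearGroup.coe_mul, coe_tv hi0, hg]
    show _ = HeUniq.Bit.toMat 5 _
    rw [mC_eq, mC_eq, HeUniq.Bit.toMat_bmul, HeUniq.Bit.toMat_bmul]
    rfl
  have hC : InC (mC (mC (tc i 0) c) (tc i 0)) := by
    refine inC_of_toMat hlt ?_ ?_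
    · rw [← show _ = HeUniq.Bit.toMat 5 _ from hcoe, (tv i 0 * g * tv i 0 : S5).2]; exact one_ne_zero
    · have := congrArg (HeUniq.Bit.toMat 5) hcz
      simp only [mC_eq, HeUniq.Bit.toMat_bmul, toMat_zC] at this ⊢
      exact this
  have hcC : tv i 0 * g * tv i 0 ∈ CS := code_mem hC hcoe
  rw [YA_eq h hi, ← fm_code F' hc (g := ⟨g, hgC⟩) hg, ← hh.agree g hgP hgC, ← map_mul, ← map_mul] at hfix
  rw [hh.agree g hgP hgC] at hfix
  refine F'.inj hC hc ?_
  rw [← fm_code F' hC (g := ⟨_, hcC⟩) hcoe, ← fm_code F' hc (g := ⟨g, hgC⟩) hg, ← hfix]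
  exact (hh.agree _ (mul_mem (mul_mem (tv_P1 hi) hgP) (tv_P1 hi)) hcC).symm

/-- The permutation codes. -/
def permC (i l : ℕ) : ℕ :=
  1 + 2 ^ 24 + 2 ^ (5 * i + 1) + 2 ^ (5 * l + 2) + 2 ^ (5 * (6 - i - l) + 3)

theorem perm_facts : ∀ {i l : Fin 5}, i ≠ 0 → i ≠ 4 → l ≠ 0 → l ≠ 4 → i ≠ l →
    ((∃ k : Fin 5, (k : ℕ) = 6 - i - l) ∧ permC i l < 2 ^ 25 ∧ mC (permC i l) zC = mC zC (permC i l) ∧
      mC (permC i l) (HeUniq.Bit.rev5 (theta (permC i l))) = oneC ∧
      mC (permC i l) (tc 1 0) = mC (tc i 0) (permC i l) ∧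
      mC (theta (permC i l)) (tc 2 0) = mC (tc l.rev 0) (theta (permC i l))) := by decide +kernel

theorem perm_inC {i l : Fin 5} (hi0 : i ≠ 0) (hi4 : i ≠ 4) (hl0 : l ≠ 0) (hl4 : l ≠ 4) (hil : i ≠ l) :
    InC (permC i l) := by
  obtain ⟨-, hlt, hz, hinv, -, -⟩ := perm_facts hi0 hi4 hl0 hl4 hil
  refine inC_of_toMat hlt (fun h0 => ?_) ?_
  · have := congrArg Matrix.det (congrArg (HeUniq.Bit.toMat 5) hinv)
    rw [mC_eq, HeUniq.Bit.toMat_bmul, Matrix.det_mul, h0, zero_mul, one_eq, HeUniq.Bit.toMat_bone,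
      Matrix.det_one] at this
    exact zero_ne_one this
  · have := congrArg (HeUniq.Bit.toMat 5) hz
    rwa [mC_eq, mC_eq, HeUniq.Bit.toMat_bmul, HeUniq.Bit.toMat_bmul, toMat_zC] at this

theorem conj_root {F' : Frame G t} {h : P1 →* G} (hh : Ext F' h) {a : ℕ} (ha : InC a) {i j : Fin 5}
    (hi : i ≠ 4) (hj : j ≠ 4) (hi0 : i ≠ 0) (hj0 : j ≠ 0) (he : mC a (tc j 0) = mC (tc i 0) a) :
    F'.f a * YA h j 0 * (F'.f a)⁻¹ = YA h i 0 := by
  obtain ⟨g, hgC, hg⟩ := exists_elem ha
  have hgP := CS_le_P1 hgC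
  rw [← fm_code F' ha (g := ⟨g, hgC⟩) hg, ← hh.agree g hgP hgC, YA_eq h hi, YA_eq h hj,
    mul_inv_eq_iff_eq_mul, ← map_mul, ← map_mul]
  refine congrArg h (Subtype.ext (Subtype.ext ?_))
  simp only [Subgroup.coe_mul, Matrix.SpecialLinearGroup.coe_mul]
  rw [coe_tv hi0, coe_tv hj0, hg]
  have := congrArg (HeUniq.Bit.toMat 5) he
  rwa [mC_eq, mC_eq, HeUniq.Bit.toMat_bmul, HeUniq.Bit.toMat_bmul] at this

variable {hA hT : P1 →* G} (ha : Ext F hA) (ht : Ext F.twist hT)

include ha ht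

theorem exists_twist : ∃ z : G, (∀ {a : ℕ}, InC a → z * F.f a * z⁻¹ = F.f a) ∧
    ∀ i l : Fin 5, i ≠ 0 → i ≠ 4 → l ≠ 0 → l ≠ 4 → i ≠ l →
      Commute (YA hA i 0) (z * YT hT 4 l * z⁻¹) := by
  set P := YA hA 1 0 with hP
  set Q := YT hT 4 2 with hQ
  have hP2 : P * P = 1 := YA_sq hA (by decide) (by decide)
  have hQ2 : Q * Q = 1 := YT_sq hT (by decide) (by decide)
  have hPi : P⁻¹ = P := inv_eq_of_mul_eq_one_right hP2
  have hQi : Q⁻¹ = Q := inv_eq_of_mul_eq_one_right hQ2
  have cA : ∀ {i j : Fin 5}, i ≠ j → i ≠ 4 → j ≠ 0 → YA hA i j = F.f (tc i j) := fun a b c => YA_code ha a b c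
  have cT : ∀ {i j : Fin 5}, i ≠ j → i ≠ 4 → j ≠ 0 → YT hT i j = F.f (tc i j) := fun a b c => YT_code ht a b c
  have i02 : InC (tc 0 2) := tc_inC (i := 0) (j := 2) (by decide) (by decide) (by decide)
  have i03 : InC (tc 0 3) := tc_inC (i := 0) (j := 3) (by decide) (by decide) (by decide)
  have i04 : InC (tc 0 4) := tc_inC (i := 0) (j := 4) (by decide) (by decide) (by decide)
  have i12 : InC (tc 1 2) := tc_inC (i := 1) (j := 2) (by decide) (by decide) (by decide)
  have i13 : InC (tc 1 3) := tc_inC (i := 1) (j := 3) (by decide) (by decide) (by decide)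
  have i14 : InC (tc 1 4) := tc_inC (i := 1) (j := 4) (by decide) (by decide) (by decide)
  have i32 : InC (tc 3 2) := tc_inC (i := 3) (j := 2) (by decide) (by decide) (by decide)
  set a2 := F.f (tc 0 2) with ha2
  set a3 := F.f (tc 0 3) with ha3
  set a4 := F.f (tc 0 4) with ha4
  set b2 := F.f (tc 1 2) with hb2
  set b3 := F.f (tc 1 3) with hb3
  set b4 := F.f (tc 1 4) with hb4
  have p2 : P * a2 * P⁻¹ = b2 * a2 := by
    refine conj_of_brac ?_
    have := YA_brac hA (i := 1) (j := 0) (l := 2) (by decide) (by decide) (by decide) (by decide) (by decide)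
    rwa [cA (i := 0) (j := 2) (by decide) (by decide) (by decide),
      cA (i := 1) (j := 2) (by decide) (by decide) (by decide)] at this
  have p3 : P * a3 * P⁻¹ = b3 * a3 := by
    refine conj_of_brac ?_
    have := YA_brac hA (i := 1) (j := 0) (l := 3) (by decide) (by decide) (by decide) (by decide) (by decide)
    rwa [cA (i := 0) (j := 3) (by decide) (by decide) (by decide),
      cA (i := 1) (j := 3) (by decide) (by decide) (by decide)] at this
  have p4 : P * a4 * P⁻¹ = b4 * a4 := by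
    refine conj_of_brac ?_
    have := YA_brac hA (i := 1) (j := 0) (l := 4) (by decide) (by decide) (by decide) (by decide) (by decide)
    rwa [cA (i := 0) (j := 4) (by decide) (by decide) (by decide),
      cA (i := 1) (j := 4) (by decide) (by decide) (by decide)] at this
  have pb : ∀ j : Fin 5, (hj : (1 : Fin 5) ≠ j) → j ≠ 0 → P * F.f (tc 1 j) * P⁻¹ = F.f (tc 1 j) := fun j hj h0 => by
    refine fix_of_comm ?_
    have := YA_comm hA (i := 1) (j := 0) (k := 1) (l := j) (by decide) hj hj (by decide) (by decide) (by decide)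
    rwa [cA hj (by decide) h0] at this
  have q2 : Q * a4 * Q⁻¹ = a2 * a4 := by
    refine conj_of_brac ?_
    rw [← commutatorElement_inv]
    have := YT_brac hT (i := 0) (j := 4) (l := 2) (by decide) (by decide) (by decide) (by decide) (by decide)
    rw [cT (i := 0) (j := 4) (by decide) (by decide) (by decide),
      cT (i := 0) (j := 2) (by decide) (by decide) (by decide)] at this
    refine (congrArg (·⁻¹) this).trans (inv_eq_of_mul_eq_one_right ?_)
    have e := YT_sq hT (i := 0) (j := 2) (by decide) (by decide)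
    rw [cT (i := 0) (j := 2) (by decide) (by decide) (by decide)] at e
    exact e
  have q2' : Q * b4 * Q⁻¹ = b2 * b4 := by
    refine conj_of_brac ?_
    rw [← commutatorElement_inv]
    have := YT_brac hT (i := 1) (j := 4) (l := 2) (by decide) (by decide) (by decide) (by decide) (by decide)
    rw [cT (i := 1) (j := 4) (by decide) (by decide) (by decide),
      cT (i := 1) (j := 2) (by decide) (by decide) (by decide)] at this
    refine (congrArg (·⁻¹) this).trans (inv_eq_of_mul_eq_one_right ?_)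
    have e := YT_sq hT (i := 1) (j := 2) (by decide) (by decide)
    rw [cT (i := 1) (j := 2) (by decide) (by decide) (by decide)] at e
    exact e
  have qfix : ∀ i j : Fin 5, i ≠ 4 → i ≠ 2 → i ≠ j → j ≠ 4 → j ≠ 0 → Q * F.f (tc i j) * Q⁻¹ = F.f (tc i j) :=
    fun i j h4 h2 hij hj4 hj0 => by
      refine fix_of_comm ?_
      have := YT_comm hT (i := 4) (j := 2) (k := i) (l := j) (by decide) hij hj4.symm h2.symm (by decide) hj0
      rwa [cT hij h4 hj0] at this
  obtain ⟨u, hu⟩ : ∃ u, u = P * Q * P * Q := ⟨_, rfl⟩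
  have cu : ∀ g : G, u * g * u⁻¹ = P * (Q * (P * (Q * g * Q⁻¹) * P⁻¹) * Q⁻¹) * P⁻¹ := by
    intro g; rw [hu]; group
  have hb2f : P * b2 * P⁻¹ = b2 := pb 2 (by decide) (by decide)
  have hb3f : P * b3 * P⁻¹ = b3 := pb 3 (by decide) (by decide)
  have hb4f : P * b4 * P⁻¹ = b4 := pb 4 (by decide) (by decide)
  have qa2 : Q * a2 * Q⁻¹ = a2 := qfix 0 2 (by decide) (by decide) (by decide) (by decide) (by decide)
  have qa3 : Q * a3 * Q⁻¹ = a3 := qfix 0 3 (by decide) (by decide) (by decide) (by decide) (by decide)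
  have qb2 : Q * b2 * Q⁻¹ = b2 := qfix 1 2 (by decide) (by decide) (by decide) (by decide) (by decide)
  have qb3 : Q * b3 * Q⁻¹ = b3 := qfix 1 3 (by decide) (by decide) (by decide) (by decide) (by decide)
  have fu : ∀ {c : ℕ} {x : G}, InC c → F.f c = x → u * x * u⁻¹ = x → u * F.f c = F.f c * u := fun _ e h => by
    rw [e]; exact mul_inv_eq_iff_eq_mul.1 h
  have hm : ∀ {x y : ℕ}, InC x → InC y → F.f x * F.f y = F.f (mC x y) := fun hx hy => (F.mul hx hy).symm
  have hut2 : u * a2 * u⁻¹ = a2 := by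
    simp only [cu, ← conj_mul, qa2, qb2, p2, hb2f]
    rw [ha2, hb2, hm i12 i02, hm i12 (i12.mul i02)]
    exact congrArg F.f (by decide +kernel)
  have hut3 : u * a3 * u⁻¹ = a3 := by
    simp only [cu, ← conj_mul, qa3, qb3, p3, hb3f]
    rw [ha3, hb3, hm i13 i03, hm i13 (i13.mul i03)]
    exact congrArg F.f (by decide +kernel)
  have hut4 : u * a4 * u⁻¹ = a4 := by
    simp only [cu, ← conj_mul, q2, q2', qa2, qb2, p2, p4, hb2f, hb4f]
    rw [ha4, ha2, hb2, hb4, hm i12 i02, hm i12 (i12.mul i02), hm i12 i14, hm i14 i04, hm (i12.mul i02) (i14.mul i04),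
      hm (i12.mul i14) ((i12.mul i02).mul (i14.mul i04)),
      hm (i12.mul (i12.mul i02)) ((i12.mul i14).mul ((i12.mul i02).mul (i14.mul i04)))]
    exact congrArg F.f (by decide +kernel)
  have hub2 : u * b2 * u⁻¹ = b2 := by simp only [cu, qb2, hb2f]
  have hub3 : u * b3 * u⁻¹ = b3 := by simp only [cu, qb3, hb3f]
  have hub4 : u * b4 * u⁻¹ = b4 := by
    simp only [cu, ← conj_mul, q2', qb2, hb2f, hb4f]
    rw [hb2, hb4, hm i12 i14, hm i12 (i12.mul i14)]
    exact congrArg F.f (by decide +kernel)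
  have hut : u * t = t * u := by
    have h4 : (a4 : G) = t := by rw [ha4, show tc 0 4 = zC by decide +kernel, F.fz]
    rw [← h4]; exact mul_inv_eq_iff_eq_mul.1 hut4
  obtain ⟨c, ⟨k, hk, rfl⟩, hcu⟩ := F.surj u hut
  have hcomm : ∀ g ∈ midGens, Nat.beq (mC (cd k) g) (mC g (cd k)) = true := by
    intro g hg
    simp only [midGens, List.mem_cons, List.not_mem_nil, or_false] at hg
    rw [Nat.beq_eq]
    have key : ∀ {g : ℕ}, InC g → u * F.f g * u⁻¹ = F.f g → mC (cd k) g = mC g (cd k) := fun hg h =>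
      F.inj ((inC_cd hk).mul hg) (hg.mul (inC_cd hk)) (by
        rw [F.mul (inC_cd hk) hg, F.mul hg (inC_cd hk), hcu]; exact mul_inv_eq_iff_eq_mul.1 h)
    rcases hg with rfl | rfl | rfl | rfl | rfl | rfl
    exacts [key i02 hut2, key i03 hut3, key i04 hut4, key i12 hub2, key i13 hub3, key i14 hub4]
  have hok : midOK k = true := by
    rcases Nat.lt_or_ge k 10752 with h | h
    · exact allB_spec mid0_ok k h
    · exact allB_chunk mid1_ok h (by omega)
  simp only [midOK, List.all_eq_true.2 hcomm, Bool.not_true, Bool.false_or, Bool.and_eq_true, Bool.or_eq_true,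
    Bool.not_eq_true', Nat.beq_eq] at hok
  obtain ⟨hcc, ⟨hpz, hqz⟩, hfinal⟩ := hok
  have hu1 : u⁻¹ = u := inv_eq_of_mul_eq_one_right (by rw [← hcu, ← F.mul (inC_cd hk) (inC_cd hk), hcc, F.one])
  have hPu : P * u * P = u := by
    conv_rhs => rw [← hu1, hu]
    rw [hu, mul_inv_rev, mul_inv_rev, mul_inv_rev, hPi, hQi]
    simp only [← mul_assoc, hP2, one_mul]
  have hQu : Q * u * Q = u := by
    conv_rhs => rw [← hu1, hu]
    rw [hu, mul_inv_rev, mul_inv_rev, mul_inv_rev, hPi, hQi]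
    simp only [mul_assoc, hQ2, mul_one]
  have hp : mC (mC (tc 1 0) (cd k)) (tc 1 0) = cd k :=
    conj_code (F' := F) ha (i := 1) (by decide) (by decide) (inC_cd hk) hpz (by rw [hcu]; exact hPu)
  have hq : mC (mC (tc 2 0) (theta (cd k))) (tc 2 0) = theta (cd k) :=
    conj_code (F' := F.twist) ht (i := 2) (by decide) (by decide) (inC_cd hk).theta hqz (by
      show _ * F.f (theta (theta (cd k))) * _ = F.f (theta (theta (cd k)))
      rw [(inC_cd hk).ok.2.2.2.2.2, hcu]
      exact hQu)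
  have hR : mC (tc 3 2) (cd k) = mC (cd k) (tc 3 2) := by
    refine F.inj (i32.mul (inC_cd hk)) ((inC_cd hk).mul i32) ?_
    rw [F.mul i32 (inC_cd hk), F.mul (inC_cd hk) i32, hcu, hu]
    have h1 : Commute (F.f (tc 3 2)) P := by
      have := YA_comm hA (i := 3) (j := 2) (k := 1) (l := 0) (by decide) (by decide) (by decide) (by decide)
        (by decide) (by decide)
      rwa [cA (i := 3) (j := 2) (by decide) (by decide) (by decide)] at this
    have h2 : Commute (F.f (tc 3 2)) Q := by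
      have := YT_comm hT (i := 3) (j := 2) (k := 4) (l := 2) (by decide) (by decide) (by decide) (by decide)
        (by decide) (by decide)
      rwa [cT (i := 3) (j := 2) (by decide) (by decide) (by decide)] at this
    exact ((h1.mul_right h2).mul_right h1).mul_right h2
  rcases hfinal with (h | h) | h
  · exfalso
    rw [hp, hq, hR, Nat.beq_refl, Nat.beq_refl, Nat.beq_refl] at h
    exact Bool.noConfusion h
  all_goals
    obtain ⟨z, hz, hone⟩ : ∃ z : G, (∀ {a : ℕ}, InC a → z * F.f a * z⁻¹ = F.f a) ∧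
        P * (z * Q * z⁻¹) * P * (z * Q * z⁻¹) = 1 := by
      first
      | exact ⟨1, fun _ => by group, by rw [one_mul, inv_one, mul_one, ← hu, ← hcu, h, F.one]⟩
      | refine ⟨t, fun hc => mul_inv_eq_iff_eq_mul.2 (F.cent hc).symm, ?_⟩
        have e4 : a4 = t := by rw [ha4, show tc 0 4 = zC by decide +kernel, F.fz]
        have s2 : a2 * a2 = 1 := by
          rw [ha2, hm i02 i02, show mC (tc 0 2) (tc 0 2) = oneC by decide +kernel, F.one]
        have e : t * Q * t⁻¹ = a2 * Q := by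
          rw [← e4]
          calc a4 * Q * a4⁻¹ = a4 * (Q * a4 * Q⁻¹)⁻¹ * Q := by group
            _ = a4 * (a4⁻¹ * a2⁻¹) * Q := by rw [q2, mul_inv_rev]
            _ = a2 * Q := by rw [mul_inv_cancel_left, inv_eq_of_mul_eq_one_right s2]
        rw [e]
        calc P * (a2 * Q) * P * (a2 * Q) = (P * a2 * P⁻¹) * (P * Q * (P * a2 * P⁻¹) * (P * Q)) := by group
          _ = b2 * a2 * (P * (Q * (b2 * a2) * Q⁻¹) * (Q * P * Q)) := by rw [p2]; group
          _ = b2 * a2 * (P * (b2 * a2) * P⁻¹ * u) := by rw [← conj_mul, qb2, qa2, hu]; group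
          _ = b2 * a2 * (b2 * (b2 * a2) * u) := by rw [← conj_mul, hb2f, p2]
          _ = 1 := by
            rw [← hcu, h, ha2, hb2, hm i12 i02, hm i12 (i12.mul i02), hm (i12.mul (i12.mul i02)) i12,
              hm (i12.mul i02) ((i12.mul (i12.mul i02)).mul i12), ← F.one]
            exact congrArg F.f (by decide +kernel)
    refine ⟨z, hz, fun i l hi0 hi4 hl0 hl4 hil => ?_⟩
    have hQz : (z * Q * z⁻¹) * (z * Q * z⁻¹) = 1 := by rw [conj_mul, hQ2, mul_one, mul_inv_cancel]
    have hc : Commute P (z * Q * z⁻¹) := by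
      show P * (z * Q * z⁻¹) = z * Q * z⁻¹ * P
      calc P * (z * Q * z⁻¹) = (P * (z * Q * z⁻¹) * P * (z * Q * z⁻¹)) * ((z * Q * z⁻¹)⁻¹ * P⁻¹) := by group
        _ = _ := by rw [hone, one_mul, inv_eq_of_mul_eq_one_right hQz, hPi]
    obtain ⟨-, -, -, -, ep, eq⟩ := perm_facts hi0 hi4 hl0 hl4 hil
    have hpc := perm_inC hi0 hi4 hl0 hl4 hil
    have h1 : F.f (permC i l) * P * (F.f (permC i l))⁻¹ = YA hA i 0 :=
      conj_root (F' := F) ha hpc hi4 (by decide) hi0 (by decide) ep
    have h2 : F.f (permC i l) * Q * (F.f (permC i l))⁻¹ = YT hT 4 l := by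
      have := conj_root (F' := F.twist) ht hpc.theta (i := l.rev) (j := 2) (fun e => hl0 ((rev_facts l).1.1 e))
        (by decide) (fun e => hl4 ((rev_facts l).2.1 e)) (by decide) eq
      rwa [show (F.twist).f (theta (permC i l)) = F.f (permC i l) from
        congrArg F.f hpc.ok.2.2.2.2.2] at this
    have h3 : F.f (permC i l) * (z * Q * z⁻¹) * (F.f (permC i l))⁻¹ = z * YT hT 4 l * z⁻¹ := by
      rw [← h2]
      have hcz : Commute z (F.f (permC i l)) := mul_inv_eq_iff_eq_mul.1 (hz hpc)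
      calc F.f (permC i l) * (z * Q * z⁻¹) * (F.f (permC i l))⁻¹
          = (F.f (permC i l) * z) * Q * ((F.f (permC i l)) * z)⁻¹ := by group
        _ = (z * F.f (permC i l)) * Q * (z * F.f (permC i l))⁻¹ := by rw [← hcz.eq]
        _ = _ := by group
    rw [← h1, ← h3]
    exact hc.map (MulAut.conj (F.f (permC i l))).toMonoidHom

end Cfsg.Agent.TransvUniq.L52
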