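import Cfsg.Agent.Lib.TransvUniq.L5.Classes
import Cfsg.Agent.Lib.SLPres.Main

/-!
Root elements satisfying all relations of SL(5,2) not mentioning the lowest root extend to a homomorphism of SL(5,2).
-/

set_option autoImplicit false

namespace Cfsg.Agent.TransvUniq.L52

open scoped commutatorElement
open L5 (S5)

variable {G : Type*} [Group G]

theorem comm_of_sq {a b : G} (ha : a * a = 1) (hb : b * b = 1) : ⁅a, b⁆ = a * b * a * b := by
  rw [commutatorElement_def, inv_eq_of_mul_eq_one_right ha, inv_eq_of_mul_eq_one_right hb]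

theorem fin5_third : ∀ k l : Fin 5, ∃ m : Fin 5, m ≠ 0 ∧ m ≠ 4 ∧ m ≠ k ∧ m ≠ l := by decide

theorem one_add_ne : ¬ ((1 : ZMod 2) + 1 = 1) := by decide

theorem zmod2_cases : ∀ x : ZMod 2, x = 0 ∨ x = 1 := by decide

/-- The relations that avoid the root from `4` to `0`. -/
structure Rels (Y : Fin 5 → Fin 5 → G) : Prop where
  sq : ∀ i j, i ≠ j → ¬ (i = 4 ∧ j = 0) → Y i j * Y i j = 1
  comm : ∀ i j k l, i ≠ j → k ≠ l → i ≠ l → j ≠ k → ¬ (i = 4 ∧ j = 0) → ¬ (k = 4 ∧ l = 0) →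
    Commute (Y i j) (Y k l)
  brac : ∀ i j l, i ≠ j → j ≠ l → i ≠ l → ¬ (i = 4 ∧ j = 0) → ¬ (j = 4 ∧ l = 0) → ¬ (i = 4 ∧ l = 0) →
    ⁅Y i j, Y j l⁆ = Y i l

namespace Rels

variable {Y : Fin 5 → Fin 5 → G} (R : Rels Y)

/-- The candidate for the lowest root. -/
def low (Y : Fin 5 → Fin 5 → G) (k : Fin 5) : G := ⁅Y 4 k, Y k 0⁆

include R

theorem sqA {k : Fin 5} (h4 : k ≠ 4) (h0 : k ≠ 0) : Y 4 k * Y 4 k = 1 :=
  R.sq 4 k h4.symm fun h => h0 h.2

theorem sqB {k : Fin 5} (h4 : k ≠ 4) (h0 : k ≠ 0) : Y k 0 * Y k 0 = 1 :=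
  R.sq k 0 h0 fun h => h4 h.1

theorem commute_low {k l m : Fin 5} (hkl : k ≠ l) (hk : k ≠ 0) (hl : l ≠ 4) (m0 : m ≠ 0) (m4 : m ≠ 4)
    (mk : m ≠ k) (ml : m ≠ l) (hex : ¬ (k = 4 ∧ l = 0)) : Commute (low Y m) (Y k l) := by
  have h1 : Commute (Y 4 m) (Y k l) := R.comm 4 m k l m4.symm hkl hl.symm mk (fun h => m0 h.2) hex
  have h2 : Commute (Y m 0) (Y k l) := R.comm m 0 k l m0 hkl ml hk.symm (fun h => m4 h.1) hex
  rw [low, commutatorElement_def]
  exact ((h1.mul_left h2).mul_left h1.inv_left).mul_left h2.inv_left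

theorem low_eq_of_ne {k l : Fin 5} (k0 : k ≠ 0) (k4 : k ≠ 4) (l0 : l ≠ 0) (l4 : l ≠ 4) (hkl : k ≠ l) :
    low Y k = low Y l := by
  have hk4 := R.sqA k4 k0; have hk0 := R.sqB k4 k0
  have hkl' : Y k l * Y k l = 1 := R.sq k l hkl fun h => k4 h.1
  have h4l := R.sqA l4 l0; have hl0 := R.sqB l4 l0
  have b1 : ⁅Y k l, Y l 0⁆ = Y k 0 :=
    R.brac k l 0 hkl l0 k0 (fun h => k4 h.1) (fun h => l4 h.1) (fun h => k4 h.1)
  have b2 : ⁅Y 4 k, Y k l⁆ = Y 4 l :=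
    R.brac 4 k l k4.symm hkl l4.symm (fun h => k0 h.2) (fun h => k4 h.1) fun h => l0 h.2
  have c1 : Commute (Y 4 k) (Y l 0) :=
    R.comm 4 k l 0 k4.symm l0 (by decide) hkl (fun h => k0 h.2) fun h => l4 h.1
  have c2 : Commute (low Y l) (Y k 0) :=
    R.commute_low k0 k0 (by decide) l0 l4 hkl.symm l0 fun h => k4 h.1
  have c3 : Commute (Y 4 l) (Y k 0) :=
    R.comm 4 l k 0 l4.symm k0 (by decide) hkl.symm (fun h => l0 h.2) fun h => k4 h.1
  have hfix : Y 4 k * Y l 0 * (Y 4 k)⁻¹ = Y l 0 := by rw [c1.eq, mul_inv_cancel_right]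
  have hmove : Y 4 k * Y k l * (Y 4 k)⁻¹ = Y 4 l * Y k l := by
    rw [← b2, commutatorElement_def, inv_mul_cancel_right]
  have h := congrArg (fun y => Y 4 k * y * (Y 4 k)⁻¹) b1
  simp only [conjugate_commutatorElement, hfix, hmove] at h
  rw [show ⁅Y 4 l * Y k l, Y l 0⁆ = Y 4 l * ⁅Y k l, Y l 0⁆ * (Y 4 l)⁻¹ * ⁅Y 4 l, Y l 0⁆ by
    simp only [commutatorElement_def]; group, b1, c3.eq, mul_inv_cancel_right] at h
  change Y k 0 * low Y l = _ at h
  rw [← c2.eq] at h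
  have : low Y l = Y 4 k * Y k 0 * (Y 4 k)⁻¹ * (Y k 0)⁻¹ := by rw [← h, mul_inv_cancel_right]
  rw [this]
  rfl

theorem low_eq {k : Fin 5} (k0 : k ≠ 0) (k4 : k ≠ 4) : low Y k = low Y 1 := by
  rcases eq_or_ne k 1 with rfl | h
  · rfl
  · exact R.low_eq_of_ne k0 k4 (by decide) (by decide) h

theorem low_sq : low Y 1 * low Y 1 = 1 := by
  have h2 : Commute (Y 4 2) (low Y 1) := by
    have a1 : Commute (Y 4 2) (Y 4 1) :=
      R.comm 4 2 4 1 (by decide) (by decide) (by decide) (by decide) (by decide) (by decide)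
    have a2 : Commute (Y 4 2) (Y 1 0) :=
      R.comm 4 2 1 0 (by decide) (by decide) (by decide) (by decide) (by decide) (by decide)
    rw [low, commutatorElement_def]
    exact ((a1.mul_right a2).mul_right a1.inv_right).mul_right a2.inv_right
  have s2 := R.sqA (k := 2) (by decide) (by decide)
  rw [← R.low_eq (k := 2) (by decide) (by decide)] at h2 ⊢
  have hinv : Y 4 2 * low Y 2 * (Y 4 2)⁻¹ = (low Y 2)⁻¹ := by
    have e : (Y 4 2)⁻¹ = Y 4 2 := inv_eq_of_mul_eq_one_right s2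
    calc Y 4 2 * low Y 2 * (Y 4 2)⁻¹
        = (Y 4 2 * Y 4 2) * Y 2 0 * (Y 4 2)⁻¹ * (Y 2 0)⁻¹ * (Y 4 2)⁻¹ := by
          simp only [low, commutatorElement_def]; group
      _ = Y 2 0 * (Y 4 2)⁻¹ * (Y 2 0)⁻¹ * (Y 4 2)⁻¹ := by rw [s2, one_mul]
      _ = Y 2 0 * Y 4 2 * (Y 2 0)⁻¹ * (Y 4 2)⁻¹ := by rw [e]
      _ = (low Y 2)⁻¹ := by simp only [low, commutatorElement_def]; group
  rw [h2.eq, mul_inv_cancel_right] at hinv
  exact mul_eq_one_iff_eq_inv.2 hinv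

theorem low_comm {k l : Fin 5} (hkl : k ≠ l) (hk : k ≠ 0) (hl : l ≠ 4) (hex : ¬ (k = 4 ∧ l = 0)) :
    Commute (low Y 1) (Y k l) := by
  obtain ⟨m, m0, m4, mk, ml⟩ := fin5_third k l
  rw [← R.low_eq m0 m4]
  exact R.commute_low hkl hk hl m0 m4 mk ml hex

theorem low_left {b : Fin 5} (b0 : b ≠ 0) (b4 : b ≠ 4) : ⁅low Y 1, Y 0 b⁆ = Y 4 b := by
  obtain ⟨k, k0, k4, kb, -⟩ := fin5_third b b
  have sA := R.sqA k4 k0; have sB := R.sqB k4 k0
  have sb : Y 0 b * Y 0 b = 1 := R.sq 0 b b0.symm fun h => absurd h.1 (by decide)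
  have b1 : ⁅Y k 0, Y 0 b⁆ = Y k b :=
    R.brac k 0 b k0 b0.symm kb (fun h => k4 h.1) (by simp) fun h => k4 h.1
  have b2 : ⁅Y 4 k, Y k b⁆ = Y 4 b :=
    R.brac 4 k b k4.symm kb b4.symm (fun h => k0 h.2) (fun h => k4 h.1) fun h => b0 h.2
  have c1 : Commute (Y 4 k) (Y 0 b) :=
    R.comm 4 k 0 b k4.symm b0.symm b4.symm k0 (fun h => k0 h.2) (by simp)
  have c2 : Commute (Y 4 b) (Y k 0) :=
    R.comm 4 b k 0 b4.symm k0 (by decide) kb.symm (fun h => b0 h.2) fun h => k4 h.1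
  have hfix : Y 0 b * Y 4 k * (Y 0 b)⁻¹ = Y 4 k := by rw [← c1.eq, mul_inv_cancel_right]
  have hmove : Y 0 b * Y k 0 * (Y 0 b)⁻¹ = Y k 0 * Y k b := by
    rw [comm_of_sq sB sb] at b1
    rw [inv_eq_of_mul_eq_one_right sb, ← b1]
    simp only [← mul_assoc, sB, one_mul]
  have h : Y 0 b * low Y k * (Y 0 b)⁻¹ = low Y k * Y 4 b := by
    rw [low, conjugate_commutatorElement, hfix, hmove,
      show ⁅Y 4 k, Y k 0 * Y k b⁆ = ⁅Y 4 k, Y k 0⁆ * (Y k 0 * ⁅Y 4 k, Y k b⁆ * (Y k 0)⁻¹) by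
        simp only [commutatorElement_def]; group, b2, ← c2.eq, mul_inv_cancel_right]
  rw [R.low_eq k0 k4] at h
  rw [comm_of_sq R.low_sq sb, mul_assoc _ (low Y 1) (Y 0 b)]
  conv_lhs => rw [mul_assoc, ← mul_assoc (Y 0 b)]
  rw [inv_eq_of_mul_eq_one_right sb] at h
  rw [h, ← mul_assoc, R.low_sq, one_mul]

theorem low_right {a : Fin 5} (a0 : a ≠ 0) (a4 : a ≠ 4) : ⁅Y a 4, low Y 1⁆ = Y a 0 := by
  obtain ⟨k, k0, k4, ka, -⟩ := fin5_third a a
  have sA := R.sqA k4 k0; have sB := R.sqB k4 k0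
  have sa : Y a 4 * Y a 4 = 1 := R.sq a 4 a4 fun h => a4 h.1
  have b1 : ⁅Y a 4, Y 4 k⁆ = Y a k :=
    R.brac a 4 k a4 k4.symm ka.symm (fun h => a4 h.1) (fun h => k0 h.2) fun h => a4 h.1
  have b2 : ⁅Y a k, Y k 0⁆ = Y a 0 :=
    R.brac a k 0 ka.symm k0 a0 (fun h => a4 h.1) (fun h => k4 h.1) fun h => a4 h.1
  have c1 : Commute (Y a 4) (Y k 0) :=
    R.comm a 4 k 0 a4 k0 a0 k4.symm (fun h => a4 h.1) fun h => k4 h.1
  have c2 : Commute (low Y 1) (Y a k) := R.low_comm ka.symm a0 k4 fun h => a4 h.1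
  have hfix : Y a 4 * Y k 0 * (Y a 4)⁻¹ = Y k 0 := by rw [c1.eq, mul_inv_cancel_right]
  have hmove : Y a 4 * Y 4 k * (Y a 4)⁻¹ = Y a k * Y 4 k := by
    rw [← b1, commutatorElement_def, inv_mul_cancel_right]
  have h : Y a 4 * low Y k * (Y a 4)⁻¹ = Y a k * low Y k * (Y a k)⁻¹ * Y a 0 := by
    rw [low, conjugate_commutatorElement, hfix, hmove, ← b2]
    simp only [commutatorElement_def]; group
  rw [R.low_eq k0 k4, ← c2.eq, mul_inv_cancel_right] at h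
  have c3 : Commute (low Y 1) (Y a 0) := R.low_comm a0 a0 (by decide) fun h => a4 h.1
  rw [commutatorElement_def, h, c3.eq, mul_inv_cancel_right]

end Rels

open Classical in
/-- The homomorphism of SL(5,2). -/
theorem exists_hom {Y : Fin 5 → Fin 5 → G} (R : Rels Y) :
    ∃ f : S5 →* G, ∀ (i j : Fin 5) (h : i ≠ j), ¬ (i = 4 ∧ j = 0) →
      f (Matrix.SpecialLinearGroup.transvection h 1) = Y i j := by
  haveI : Fact (Nat.Prime 2) := ⟨Nat.prime_two⟩
  let V : Fin 5 → Fin 5 → G := fun i j => if i = 4 ∧ j = 0 then Rels.low Y 1 else Y i j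
  have hVlow : V 4 0 = Rels.low Y 1 := if_pos ⟨rfl, rfl⟩
  have hV : ∀ i j, ¬ (i = 4 ∧ j = 0) → V i j = Y i j := fun i j h => if_neg h
  have vsq : ∀ i j, i ≠ j → V i j * V i j = 1 := by
    intro i j h
    by_cases hx : i = 4 ∧ j = 0
    · obtain ⟨rfl, rfl⟩ := hx; rw [hVlow]; exact R.low_sq
    · rw [hV _ _ hx]; exact R.sq i j h hx
  have vcomm : ∀ i j k l, i ≠ j → k ≠ l → i ≠ l → j ≠ k → Commute (V i j) (V k l) := by
    intro i j k l hij hkl hil hjk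
    by_cases hx : i = 4 ∧ j = 0 <;> by_cases hy : k = 4 ∧ l = 0
    · obtain ⟨rfl, rfl⟩ := hx; obtain ⟨rfl, rfl⟩ := hy; exact Commute.refl _
    · obtain ⟨rfl, rfl⟩ := hx
      rw [hVlow, hV _ _ hy]; exact R.low_comm hkl hjk.symm hil.symm hy
    · obtain ⟨rfl, rfl⟩ := hy
      rw [hVlow, hV _ _ hx]; exact (R.low_comm hij hil hjk hx).symm
    · rw [hV _ _ hx, hV _ _ hy]; exact R.comm i j k l hij hkl hil hjk hx hy
  have vbrac : ∀ i j l, i ≠ j → j ≠ l → i ≠ l → ⁅V i j, V j l⁆ = V i l := by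
    intro i j l hij hjl hil
    by_cases hx : i = 4 ∧ l = 0
    · obtain ⟨rfl, rfl⟩ := hx
      rw [hVlow, hV _ _ (fun h => hjl h.2), hV _ _ (fun h => hij h.1.symm)]
      exact R.low_eq hjl hij.symm
    · by_cases hy : i = 4 ∧ j = 0
      · obtain ⟨rfl, rfl⟩ := hy
        rw [hVlow, hV _ _ (fun h => absurd h.1 (by decide)), hV _ _ hx]
        exact R.low_left hjl.symm hil.symm
      · by_cases hz : j = 4 ∧ l = 0
        · obtain ⟨rfl, rfl⟩ := hz
          rw [hVlow, hV _ _ hy, hV _ _ hx]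
          exact R.low_right hil hij
        · rw [hV _ _ hx, hV _ _ hy, hV _ _ hz]; exact R.brac i j l hij hjl hil hy hz hx
  let D : SLPres.Data 5 (ZMod 2) G :=
    { y := fun i j t => if t = 1 then V i j else 1
      add := fun i j h t u => by
        rcases zmod2_cases t with rfl | rfl <;> rcases zmod2_cases u with rfl | rfl
        · simp
        · simp
        · simp
        · rw [if_pos rfl, vsq i j h, if_neg one_add_ne]
      comm := fun i j k l hij hkl hil hjk t u => by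
        rcases zmod2_cases t with rfl | rfl <;> rcases zmod2_cases u with rfl | rfl
        · simp
        · simp
        · simp
        · simpa using vcomm i j k l hij hkl hil hjk
      brac := fun i j l hij hjl hil t u => by
        rcases zmod2_cases t with rfl | rfl <;> rcases zmod2_cases u with rfl | rfl
        · simp
        · simp
        · simp
        · simpa using vbrac i j l hij hjl hil }
  obtain ⟨φ, hφ⟩ := SLPres.exists_hom_of_data D
  obtain ⟨π, hπ⟩ := SLPres.exists_toSL 5 (ZMod 2)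
  let e := MulEquiv.ofBijective π (SLPres.toSL_bijective 3 (by decide) π hπ)
  refine ⟨φ.comp e.symm.toMonoidHom, fun i j h hx => ?_⟩
  have he : e.symm (Matrix.SpecialLinearGroup.transvection h 1) =
      PresentedGroup.of (⟨(i, j), h⟩, (1 : ZMod 2)) := e.symm_apply_eq.2 (hπ ⟨(i, j), h⟩ 1).symm
  rw [MonoidHom.comp_apply, MulEquiv.coe_toMonoidHom, he]
  refine (hφ ⟨(i, j), h⟩ 1).trans ?_
  show (if (1 : ZMod 2) = 1 then V i j else 1) = Y i j
  rw [if_pos rfl, hV i j hx]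

end Cfsg.Agent.TransvUniq.L52
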