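import Cfsg.Agent.Lib.TransvUniq.L5.Classes
import Cfsg.Agent.Lib.HeUniq.Model.Frame
import Cfsg.Agent.Lib.HeUniq.Excl.Defs

/-!
The stabiliser of a hyperplane in SL(5,2) as a split extension, and a frame read on matrices.
-/

set_option autoImplicit false
set_option maxRecDepth 20000

namespace Cfsg.Agent.TransvUniq.L52

open Cfsg.Agent.HeUniq.Model Cfsg.Agent.HeUniq.Excl
open L5 (S5 M5 dec exists_of_mul)

/-- The group of the hyperplane. -/
abbrev S4 := Matrix.SpecialLinearGroup (Fin 4) (ZMod 2)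

/-- Vectors of length four. -/
abbrev V4 := Fin 4 → ZMod 2

/-- A block as a matrix of degree five. -/
def embM (B : Matrix (Fin 4) (Fin 4) (ZMod 2)) : M5 :=
  !![B 0 0, B 0 1, B 0 2, B 0 3, 0;
     B 1 0, B 1 1, B 1 2, B 1 3, 0;
     B 2 0, B 2 1, B 2 2, B 2 3, 0;
     B 3 0, B 3 1, B 3 2, B 3 3, 0;
     0, 0, 0, 0, 1]

/-- A column as a matrix of degree five. -/
def colM (v : V4) : M5 :=
  !![1, 0, 0, 0, v 0;
     0, 1, 0, 0, v 1;
     0, 0, 1, 0, v 2;
     0, 0, 0, 1, v 3;
     0, 0, 0, 0, 1]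

/-- The block of a matrix. -/
def blkM (g : M5) : Matrix (Fin 4) (Fin 4) (ZMod 2) :=
  !![g 0 0, g 0 1, g 0 2, g 0 3;
     g 1 0, g 1 1, g 1 2, g 1 3;
     g 2 0, g 2 1, g 2 2, g 2 3;
     g 3 0, g 3 1, g 3 2, g 3 3]

/-- The column of a matrix. -/
def vecM (g : M5) : V4 := ![g 0 4, g 1 4, g 2 4, g 3 4]

theorem embM_mul (A B : Matrix (Fin 4) (Fin 4) (ZMod 2)) : embM A * embM B = embM (A * B) := by
  ext i j
  fin_cases i <;> fin_cases j <;> simp [embM, Matrix.mul_apply, Fin.sum_univ_five, Fin.sum_univ_four]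

theorem embM_one : embM 1 = 1 := by decide +kernel

theorem colM_mul (v w : V4) : colM v * colM w = colM (v + w) := by
  ext i j
  fin_cases i <;> fin_cases j <;> simp [colM, Matrix.mul_apply, Fin.sum_univ_five, add_comm]

theorem colM_zero : colM 0 = 1 := by decide +kernel

theorem embM_colM (B : Matrix (Fin 4) (Fin 4) (ZMod 2)) (v : V4) :
    embM B * colM v = colM (B.mulVec v) * embM B := by
  ext i j
  fin_cases i <;> fin_cases j <;>
    simp [embM, colM, Matrix.mul_apply, Matrix.mulVec, dotProduct, Fin.sum_univ_five, Fin.sum_univ_four]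

theorem decomp {g : M5} (h : ∀ j, g 4 j = if j = 4 then 1 else 0) : g = colM (vecM g) * embM (blkM g) := by
  ext i j
  fin_cases i <;> fin_cases j <;> simp [colM, vecM, embM, blkM, Matrix.mul_apply, Fin.sum_univ_five, h]

theorem blkM_mul {g k : M5} (hk : ∀ j, k 4 j = if j = 4 then 1 else 0) : blkM (g * k) = blkM g * blkM k := by
  ext i j
  fin_cases i <;> fin_cases j <;> simp [blkM, Matrix.mul_apply, Fin.sum_univ_five, Fin.sum_univ_four, hk]

theorem vecM_mul {g k : M5} (hk : ∀ j, k 4 j = if j = 4 then 1 else 0) :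
    vecM (g * k) = vecM g + (blkM g).mulVec (vecM k) := by
  ext i
  fin_cases i <;>
    simp [vecM, blkM, Matrix.mul_apply, Matrix.mulVec, dotProduct, Fin.sum_univ_five, Fin.sum_univ_four, hk] <;> ring

theorem embM_inj {A B : Matrix (Fin 4) (Fin 4) (ZMod 2)} (h : embM A = embM B) : A = B := by
  ext i j
  have h00 := congrFun (congrFun h i.castSucc) j.castSucc
  fin_cases i <;> fin_cases j <;> simpa [embM] using h00

theorem colM_eq_embM {v : V4} {B : Matrix (Fin 4) (Fin 4) (ZMod 2)} (h : colM v = embM B) : v = 0 := by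
  ext i
  have h04 := congrFun (congrFun h i.castSucc) 4
  fin_cases i <;> simpa [embM, colM] using h04

theorem exists_sl4 {A B : Matrix (Fin 4) (Fin 4) (ZMod 2)} (h : A * B = 1) : ∃ g : S4, g.1 = A := by
  refine ⟨⟨A, L5.zmod2_one _ fun h0 => ?_⟩, rfl⟩
  have := congrArg Matrix.det h
  rw [Matrix.det_mul, h0, zero_mul, Matrix.det_one] at this
  exact zero_ne_one this

theorem exists_embE (B : S4) : ∃ g : S5, (g : M5) = embM B.1 :=
  exists_of_mul (A := embM B.1) (B := embM (B⁻¹).1) (by
    rw [embM_mul, ← Matrix.SpecialLinearGroup.coe_mul, mul_inv_cancel, Matrix.SpecialLinearGroup.coe_one,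
      embM_one])

/-- A block as an element, as a function. -/
noncomputable def embE (B : S4) : S5 := (exists_embE B).choose

theorem coe_embE (B : S4) : (embE B : M5) = embM B.1 := (exists_embE B).choose_spec

/-- A block as an element. -/
noncomputable def embS : S4 →* S5 :=
  MonoidHom.mk' embE fun A B => Subtype.ext (by
    rw [Matrix.SpecialLinearGroup.coe_mul, coe_embE, coe_embE, coe_embE, embM_mul,
      Matrix.SpecialLinearGroup.coe_mul])

theorem coe_embS (B : S4) : (embS B : M5) = embM B.1 := coe_embE B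

/-- A column as an element. -/
def colS (v : V4) : S5 :=
  ⟨colM v, by
    rw [Matrix.det_of_isUpperTriangular]
    · simp [colM, Fin.prod_univ_five]
    · intro i j hij
      fin_cases i <;> fin_cases j <;> first | exact absurd hij (by decide) | rfl⟩

theorem coe_colS (v : V4) : (colS v : M5) = colM v := rfl

theorem colS_mul (v w : V4) : colS v * colS w = colS (v + w) := Subtype.ext (colM_mul v w)

/-- The stabiliser of the hyperplane. -/
def P1 : Subgroup S5 :=
  let M : Submonoid S5 :=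
    { carrier := {g | ∀ j, (g : M5) 4 j = if j = 4 then 1 else 0}
      mul_mem' := fun {g k} hg hk j => by
        simp [Matrix.mul_apply, Fin.sum_univ_five, hg 0, hg 1, hg 2, hg 3, hg 4, hk j]
      one_mem' := fun j => by simp [Matrix.one_apply, eq_comm] }
  { M with
    inv_mem' := fun {g} hg => by
      have h := pow_orderOf_eq_one g
      have h0 := orderOf_pos g
      have e : g⁻¹ = g ^ (orderOf g - 1) := inv_eq_of_mul_eq_one_right (by
        rw [← pow_succ', show orderOf g - 1 + 1 = orderOf g by omega, h])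
      show g⁻¹ ∈ M
      rw [e]; exact M.pow_mem hg _ }

theorem mem_P1 {g : S5} : g ∈ P1 ↔ ∀ j, (g : M5) 4 j = if j = 4 then 1 else 0 := Iff.rfl

theorem exists_blkE (g : P1) : ∃ B : S4, B.1 = blkM (g : S5).1 :=
  exists_sl4 (A := blkM (g : S5).1) (B := blkM ((g⁻¹ : P1) : S5).1) (by
    rw [← blkM_mul (mem_P1.1 (g⁻¹).2), ← Matrix.SpecialLinearGroup.coe_mul, ← Subgroup.coe_mul, mul_inv_cancel]
    show blkM (1 : M5) = 1
    decide +kernel)

/-- The block of an element, as a function. -/
noncomputable def blkE (g : P1) : S4 := (exists_blkE g).choose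

theorem coe_blkE (g : P1) : (blkE g).1 = blkM (g : S5).1 := (exists_blkE g).choose_spec

/-- The block of an element. -/
noncomputable def blkS : P1 →* S4 :=
  MonoidHom.mk' blkE fun g k => Subtype.ext (by
    rw [Matrix.SpecialLinearGroup.coe_mul, coe_blkE, coe_blkE, coe_blkE, Subgroup.coe_mul,
      Matrix.SpecialLinearGroup.coe_mul, blkM_mul (mem_P1.1 k.2)])

theorem coe_blkS (g : P1) : (blkS g).1 = blkM (g : S5).1 := coe_blkE g

theorem decompS (g : P1) : (g : S5) = colS (vecM (g : S5).1) * embS (blkS g) := Subtype.ext (by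
  rw [Matrix.SpecialLinearGroup.coe_mul, coe_colS, coe_embS, coe_blkS]
  exact decomp (mem_P1.1 g.2))

/-- The centraliser of the transvection. -/
def CS : Subgroup S5 where
  carrier := {g | (g : M5) * sMat = sMat * (g : M5)}
  one_mem' := by simp
  mul_mem' {g k} hg hk := by
    show ((g : M5) * (k : M5)) * sMat = sMat * ((g : M5) * (k : M5))
    rw [mul_assoc, show (k : M5) * sMat = sMat * k from hk, ← mul_assoc, show (g : M5) * sMat = sMat * g from hg,
      mul_assoc]
  inv_mem' {g} hg := by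
    have h1 : (g : M5) * (g⁻¹ : S5).1 = 1 := by
      rw [← Matrix.SpecialLinearGroup.coe_mul, mul_inv_cancel, Matrix.SpecialLinearGroup.coe_one]
    have h2 : (g⁻¹ : S5).1 * (g : M5) = 1 := by
      rw [← Matrix.SpecialLinearGroup.coe_mul, inv_mul_cancel, Matrix.SpecialLinearGroup.coe_one]
    show (g⁻¹ : S5).1 * sMat = sMat * (g⁻¹ : S5).1
    calc (g⁻¹ : S5).1 * sMat = (g⁻¹ : S5).1 * (sMat * ((g : M5) * (g⁻¹ : S5).1)) := by rw [h1, mul_one]
      _ = (g⁻¹ : S5).1 * ((g : M5) * sMat) * (g⁻¹ : S5).1 := by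
        rw [show (g : M5) * sMat = sMat * g from hg]; simp only [mul_assoc]
      _ = sMat * (g⁻¹ : S5).1 := by rw [← mul_assoc, h2, one_mul]

theorem mem_CS {g : S5} : g ∈ CS ↔ (g : M5) * sMat = sMat * (g : M5) := Iff.rfl

theorem colS_mem_CS (v : V4) : colS v ∈ CS := by
  have : ∀ a b c d : ZMod 2, colM ![a, b, c, d] * sMat = sMat * colM ![a, b, c, d] := by decide +kernel
  rw [mem_CS, coe_colS, show v = ![v 0, v 1, v 2, v 3] by ext i; fin_cases i <;> rfl]
  exact this _ _ _ _

theorem exists_code {g : S5} (hg : g ∈ CS) : ∃ a, InC a ∧ dec a = (g : M5) := by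
  obtain ⟨i, hi, he⟩ := exists_cd (A := (g : M5)) (by rw [g.2]; exact one_ne_zero) hg
  exact ⟨cd i, inC_cd hi, he⟩

theorem code_mem {a : ℕ} (ha : InC a) {g : S5} (hg : (g : M5) = dec a) : g ∈ CS := by
  rw [mem_CS, hg]; exact ha.comm

theorem exists_elem {a : ℕ} (ha : InC a) : ∃ g : S5, g ∈ CS ∧ (g : M5) = dec a := by
  refine ⟨⟨dec a, L5.zmod2_one _ ha.det⟩, ?_, rfl⟩
  exact code_mem ha rfl

section frame

variable {G : Type*} [Group G] {t : G} (F : Frame G t)

/-- The frame on matrices. -/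
noncomputable def fm : CS →* G :=
  MonoidHom.mk' (fun g => F.f (exists_code g.2).choose) fun g k => by
    obtain ⟨ha, he⟩ := (exists_code g.2).choose_spec
    obtain ⟨hb, he'⟩ := (exists_code k.2).choose_spec
    obtain ⟨hc, he''⟩ := (exists_code (g * k).2).choose_spec
    rw [← F.mul ha hb]
    refine congrArg F.f (HeUniq.Bit.toMat_inj (n := 5) hc.ok.1 (ha.mul hb).ok.1 ?_)
    show dec _ = dec _
    rw [he'', mC_eq]
    show _ = HeUniq.Bit.toMat 5 (HeUniq.Bit.bmul 5 _ _)
    rw [HeUniq.Bit.toMat_bmul]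
    show _ = dec _ * dec _
    rw [he, he']
    rfl

theorem fm_code {a : ℕ} (ha : InC a) {g : CS} (hg : ((g : S5) : M5) = dec a) : fm F g = F.f a := by
  obtain ⟨hb, he⟩ := (exists_code g.2).choose_spec
  show F.f _ = F.f a
  exact congrArg F.f (HeUniq.Bit.toMat_inj (n := 5) hb.ok.1 ha.ok.1 (he.trans hg))

theorem fm_inj : Function.Injective (fm F) := by
  intro g k h
  obtain ⟨ha, he⟩ := (exists_code g.2).choose_spec
  obtain ⟨hb, he'⟩ := (exists_code k.2).choose_spec
  have := F.inj ha hb h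
  exact Subtype.ext (Subtype.ext (he.symm.trans ((congrArg dec this).trans he')))

theorem fm_surj {x : G} (hx : x * t = t * x) : ∃ g : CS, fm F g = x := by
  obtain ⟨a, ha, rfl⟩ := F.surj x hx
  obtain ⟨g, hg, he⟩ := exists_elem ha
  exact ⟨⟨g, hg⟩, fm_code F ha he⟩

theorem fm_cent (g : CS) : fm F g * t = t * fm F g := F.cent (exists_code g.2).choose_spec.1

end frame

end Cfsg.Agent.TransvUniq.L52
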