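import Cfsg.Agent.Lib.HeUniq.Model.Code

/-!
Checks for the gluing of the two parabolic subgroups: the centraliser of the radical of the middle parabolic, and
its elements fixed by three root elements.
-/

set_option autoImplicit false
set_option maxRecDepth 100000
set_option Elab.async false

namespace Cfsg.Agent.TransvUniq.L52

open Cfsg.Agent.HeUniq.Model

/-- the code of a transvection -/
def tc (i j : ℕ) : ℕ := Nat.add 17043521 (Nat.pow 2 (Nat.add (Nat.mul 5 i) j))

/-- the radical generators -/
def midGens : List ℕ := [tc 0 2, tc 0 3, tc 0 4, tc 1 2, tc 1 3, tc 1 4]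

/-- the check on one element of the centraliser -/
def midOK (i : ℕ) : Bool :=
  let c := cd i
  !(midGens.all fun g => Nat.beq (mC c g) (mC g c)) ||
    (Nat.beq (mC c c) oneC &&
      (let p := mC (mC (tc 1 0) c) (tc 1 0)
       let q := mC (mC (tc 2 0) (theta c)) (tc 2 0)
       Nat.beq (mC p zC) (mC zC p) && Nat.beq (mC q zC) (mC zC q) &&
        (!(Nat.beq p c && Nat.beq q (theta c) && Nat.beq (mC (tc 3 2) c) (mC c (tc 3 2))) ||
          Nat.beq c oneC || Nat.beq c (tc 1 2))))

theorem mid0_ok : allB midOK 10752 = true := by decide +kernel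

theorem mid1_ok : allB (fun i => midOK (10752 + i)) 10752 = true := by decide +kernel

end Cfsg.Agent.TransvUniq.L52
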