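import Cfsg.Agent.Lib.TransvUniq.L52.Mats
import Cfsg.Agent.Lib.TransvUniq.L52.Glue
import Cfsg.Agent.Lib.TransvUniq.L52.TwistChk

/-!
Root elements from homomorphisms of the two maximal parabolic subgroups agreeing with a frame.
-/

set_option autoImplicit false
set_option maxRecDepth 20000

namespace Cfsg.Agent.TransvUniq.L52

open Cfsg.Agent.HeUniq.Model
open scoped commutatorElement
open L5 (S5 M5 dec)

/-- A transvection as an element, or one. -/
def tv (i j : Fin 5) : S5 := if h : i ≠ j then Matrix.SpecialLinearGroup.transvection h 1 else 1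

theorem tv_eq {i j : Fin 5} (h : i ≠ j) : tv i j = Matrix.SpecialLinearGroup.transvection h 1 := dif_pos h

theorem coe_tv : ∀ {i j : Fin 5}, i ≠ j → ((tv i j : S5) : M5) = dec (tc i j) := by decide +kernel

theorem tv_P1 {i j : Fin 5} (h4 : i ≠ 4) : tv i j ∈ P1 := by
  have key : ∀ i j : Fin 5, i ≠ 4 → ∀ k, ((tv i j : S5) : M5) 4 k = if k = 4 then 1 else 0 := by decide +kernel
  exact mem_P1.2 (key i j h4)

theorem tv_CS {i j : Fin 5} (h4 : i ≠ 4) (h0 : j ≠ 0) : tv i j ∈ CS := by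
  have key : ∀ i j : Fin 5, i ≠ 4 → j ≠ 0 → ((tv i j : S5) : M5) * sMat = sMat * ((tv i j : S5) : M5) := by
    decide +kernel
  exact mem_CS.2 (key i j h4 h0)

theorem tc_inC {i j : Fin 5} (h : i ≠ j) (h4 : i ≠ 4) (h0 : j ≠ 0) : InC (tc i j) := by
  obtain ⟨a, ha, he⟩ := exists_code (tv_CS h4 h0)
  have hlt : ∀ i j : Fin 5, tc i j < 2 ^ 25 ∨ i = j := by decide +kernel
  have := HeUniq.Bit.toMat_inj (n := 5) ha.ok.1 ((hlt i j).resolve_right h) (he.trans (coe_tv h))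
  exact this ▸ ha

theorem theta_tc : ∀ {i j : Fin 5}, i ≠ j → i ≠ 4 → j ≠ 0 → theta (tc j.rev i.rev) = tc i j := by decide +kernel

theorem rev_facts : ∀ i : Fin 5, (i.rev = 4 ↔ i = 0) ∧ (i.rev = 0 ↔ i = 4) := by decide

variable {G : Type*} [Group G] {t : G} {F : Frame G t}

/-- A homomorphism of the parabolic subgroup extending a frame. -/
structure Ext (F : Frame G t) (h : P1 →* G) : Prop where
  agree : ∀ (g : S5) (hg : g ∈ P1) (hC : g ∈ CS), h ⟨g, hg⟩ = fm F ⟨g, hC⟩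

/-- The root elements of the first parabolic. -/
noncomputable def YA (h : P1 →* G) (i j : Fin 5) : G :=
  if hp : i ≠ 4 then h ⟨tv i j, tv_P1 hp⟩ else 1

theorem YA_eq (h : P1 →* G) {i j : Fin 5} (h4 : i ≠ 4) : YA h i j = h ⟨tv i j, tv_P1 h4⟩ := dif_pos h4

theorem YA_sq (h : P1 →* G) {i j : Fin 5} (hij : i ≠ j) (h4 : i ≠ 4) : YA h i j * YA h i j = 1 := by
  rw [YA_eq h h4, ← map_mul, ← map_one h]
  refine congrArg h (Subtype.ext ?_)
  have e := (SLPres.slData 5 (ZMod 2)).add hij 1 1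
  have e0 := (SLPres.slData 5 (ZMod 2)).y_zero hij
  rw [show (1 : ZMod 2) + 1 = 0 by rfl] at e
  exact e.trans e0

theorem YA_comm (h : P1 →* G) {i j k l : Fin 5} (hij : i ≠ j) (hkl : k ≠ l) (hil : i ≠ l) (hjk : j ≠ k)
    (hi : i ≠ 4) (hk : k ≠ 4) : Commute (YA h i j) (YA h k l) := by
  rw [YA_eq h hi, YA_eq h hk]
  exact (show Commute (⟨tv i j, tv_P1 hi⟩ : P1) ⟨tv k l, tv_P1 hk⟩ from
    Subtype.ext ((SLPres.slData 5 (ZMod 2)).comm hij hkl hil hjk 1 1).eq).map h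

theorem YA_brac (h : P1 →* G) {i j l : Fin 5} (hij : i ≠ j) (hjl : j ≠ l) (hil : i ≠ l)
    (hi : i ≠ 4) (hj : j ≠ 4) : ⁅YA h i j, YA h j l⁆ = YA h i l := by
  rw [YA_eq h hi, YA_eq h hj, YA_eq h hi, ← map_commutatorElement]
  refine congrArg h (Subtype.ext ?_)
  have e := (SLPres.slData 5 (ZMod 2)).brac hij hjl hil 1 1
  rw [one_mul] at e
  exact e

theorem YA_code {h : P1 →* G} (hh : Ext F h) {i j : Fin 5} (hij : i ≠ j) (h4 : i ≠ 4) (h0 : j ≠ 0) :
    YA h i j = F.f (tc i j) := by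
  rw [YA_eq h h4, hh.agree _ (tv_P1 h4) (tv_CS h4 h0)]
  exact fm_code F (tc_inC hij h4 h0) (coe_tv hij)

/-- The root elements of the second parabolic, before conjugation. -/
noncomputable def YT (h : P1 →* G) (i j : Fin 5) : G := YA h j.rev i.rev

theorem YT_sq (h : P1 →* G) {i j : Fin 5} (hij : i ≠ j) (h0 : j ≠ 0) : YT h i j * YT h i j = 1 :=
  YA_sq h (Fin.rev_injective.ne hij.symm) fun e => h0 ((rev_facts j).1.1 e)

theorem YT_comm (h : P1 →* G) {i j k l : Fin 5} (hij : i ≠ j) (hkl : k ≠ l) (hil : i ≠ l) (hjk : j ≠ k)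
    (hj : j ≠ 0) (hl : l ≠ 0) : Commute (YT h i j) (YT h k l) :=
  YA_comm h (Fin.rev_injective.ne hij.symm) (Fin.rev_injective.ne hkl.symm) (Fin.rev_injective.ne hjk)
    (Fin.rev_injective.ne hil) (fun e => hj ((rev_facts j).1.1 e)) fun e => hl ((rev_facts l).1.1 e)

theorem YT_brac (h : P1 →* G) {i j l : Fin 5} (hij : i ≠ j) (hjl : j ≠ l) (hil : i ≠ l)
    (hj : j ≠ 0) (hl : l ≠ 0) : ⁅YT h i j, YT h j l⁆ = YT h i l := by
  have e := YA_brac h (i := l.rev) (j := j.rev) (l := i.rev) (Fin.rev_injective.ne hjl.symm)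
    (Fin.rev_injective.ne hij.symm) (Fin.rev_injective.ne hil.symm) (fun e => hl ((rev_facts l).1.1 e))
    fun e => hj ((rev_facts j).1.1 e)
  rw [← commutatorElement_inv, show ⁅YT h j l, YT h i j⁆ = YT h i l from e]
  exact inv_eq_of_mul_eq_one_right (YT_sq h hil hl)

theorem YT_code {h : P1 →* G} (hh : Ext F.twist h) {i j : Fin 5} (hij : i ≠ j) (h4 : i ≠ 4) (h0 : j ≠ 0) :
    YT h i j = F.f (tc i j) := by
  rw [YT, YA_code hh (Fin.rev_injective.ne hij.symm) (fun e => h0 ((rev_facts j).1.1 e))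
    fun e => h4 ((rev_facts i).2.1 e)]
  show F.f (theta _) = _
  rw [theta_tc hij h4 h0]

/-- All root elements but one. -/
noncomputable def YY (hA hT : P1 →* G) (z : G) (i j : Fin 5) : G :=
  if i = 4 then z * YT hT i j * z⁻¹ else YA hA i j

theorem YY_four (hA hT : P1 →* G) (z : G) (j : Fin 5) : YY hA hT z 4 j = z * YT hT 4 j * z⁻¹ := if_pos rfl

theorem YY_ne (hA hT : P1 →* G) (z : G) {i : Fin 5} (h : i ≠ 4) (j : Fin 5) :
    YY hA hT z i j = YA hA i j := if_neg h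

variable {hA hT : P1 →* G} (ha : Ext F hA) (ht : Ext F.twist hT) {z : G}
  (hz : ∀ {a : ℕ}, InC a → z * F.f a * z⁻¹ = F.f a)

include ha ht hz

theorem YY_second {i j : Fin 5} (hij : i ≠ j) (h0 : j ≠ 0) :
    YY hA hT z i j = z * YT hT i j * z⁻¹ := by
  rcases eq_or_ne i 4 with rfl | h4
  · exact YY_four hA hT z j
  · rw [YY_ne hA hT z h4, YA_code ha hij h4 h0, YT_code ht hij h4 h0, hz (tc_inC hij h4 h0)]

theorem rels_of_cross (hcross : ∀ i l : Fin 5, i ≠ 0 → i ≠ 4 → l ≠ 0 → l ≠ 4 → i ≠ l →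
    Commute (YA hA i 0) (z * YT hT 4 l * z⁻¹)) : Rels (YY hA hT z) := by
  have hB := @YY_second G _ t F hA hT ha ht z hz
  refine ⟨fun i j hij hx => ?_, fun i j k l hij hkl hil hjk hx hy => ?_, fun i j l hij hjl hil hx hy hw => ?_⟩
  · rcases eq_or_ne i 4 with rfl | h4
    · rw [YY_four, conj_mul, YT_sq hT hij fun e => hx ⟨rfl, e⟩, mul_one, mul_inv_cancel]
    · rw [YY_ne hA hT z h4]; exact YA_sq hA hij h4
  · by_cases hA' : i ≠ 4 ∧ k ≠ 4
    · rw [YY_ne hA hT z hA'.1, YY_ne hA hT z hA'.2]; exact YA_comm hA hij hkl hil hjk hA'.1 hA'.2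
    by_cases hB' : j ≠ 0 ∧ l ≠ 0
    · rw [hB hij hB'.1, hB hkl hB'.2]
      exact (YT_comm hT hij hkl hil hjk hB'.1 hB'.2).map (MulAut.conj z).toMonoidHom
    rcases eq_or_ne i 4 with rfl | hi
    · have hj : j ≠ 0 := fun e => hx ⟨rfl, e⟩
      have hl : l = 0 := by by_contra hl; exact hB' ⟨hj, hl⟩
      subst hl
      have hk : k ≠ 4 := fun e => hy ⟨e, rfl⟩
      rw [YY_four, YY_ne hA hT z hk]
      exact (hcross k j hkl hk hj (Ne.symm hij) (Ne.symm hjk)).symm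
    · have hk : k = 4 := by by_contra hk; exact hA' ⟨hi, hk⟩
      subst hk
      have hl : l ≠ 0 := fun e => hy ⟨rfl, e⟩
      have hj : j = 0 := by by_contra hj; exact hB' ⟨hj, hl⟩
      subst hj
      rw [YY_four, YY_ne hA hT z hi]
      exact hcross i l hij hi hl hkl.symm hil
  · by_cases hA' : i ≠ 4 ∧ j ≠ 4
    · rw [YY_ne hA hT z hA'.1, YY_ne hA hT z hA'.2, YY_ne hA hT z hA'.1]
      exact YA_brac hA hij hjl hil hA'.1 hA'.2
    · have h0 : j ≠ 0 ∧ l ≠ 0 := by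
        rcases eq_or_ne i 4 with rfl | hi
        · exact ⟨fun e => hx ⟨rfl, e⟩, fun e => hw ⟨rfl, e⟩⟩
        · have hj : j = 4 := by by_contra hj; exact hA' ⟨hi, hj⟩
          subst hj
          exact ⟨by decide, fun e => hy ⟨rfl, e⟩⟩
      rw [hB hij h0.1, hB hjl h0.2, hB hil h0.2, ← conjugate_commutatorElement, YT_brac hT hij hjl hil h0.1 h0.2]

end Cfsg.Agent.TransvUniq.L52
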